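import Cfsg.Agent.Lib.Blocks.Defect

/-!
# Blocks of a given defect and the classes of that defect

For blocks of defect `d` the central characters are determined by, and independent on, the
`p`-regular classes whose centralizers have `p`-part exactly `p ^ d`.
-/

set_option linter.unusedSectionVars false
set_option linter.style.haveILetI false

namespace Cfsg.Agent.BlockLow

open Cfsg Cfsg.Agent.Blocks
open scoped Classical

universe u

variable {G : Type u} [Group G] [Fintype G] {p : ℕ} [hp : Fact p.Prime] {M : Ideal AlgInt}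
  [M.IsMaximal]

theorem le_blockDefect_of_coeff (hpM : (p : AlgInt) ∈ M) {B : Set (IrrCharacter G)}
    (hB : IsPBlock M B) {h : G} (hh : ¬ MemLocalIdeal M (blockCoeff B h)) :
    (Nat.card (Subgroup.centralizer ({h} : Set G))).factorization p ≤ blockDefect p B := by
  obtain ⟨χ, hχ⟩ := block_nonempty hB
  obtain ⟨g, hg⟩ := exists_defectClass hB
  obtain ⟨D, hD⟩ := exists_sylIn (p := p) (Subgroup.centralizer ({g} : Set G))
  obtain ⟨Q, hQ⟩ := exists_sylIn (p := p) (Subgroup.centralizer ({h} : Set G))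
  obtain ⟨x, hx⟩ := minmax hpM hB hχ (hg.2.2 χ hχ) hh hD (SylIn.isPGroup hQ) hQ.1
  have hc := Subgroup.card_le_of_le hx
  rw [card_map_conj, hQ.2, hD.2] at hc
  rw [blockDefect_eq hpM hB hg]
  exact (Nat.pow_le_pow_iff_right hp.out.one_lt).1 hc

theorem blockDefect_le_of_centralChar (hpM : (p : AlgInt) ∈ M) {B : Set (IrrCharacter G)}
    (hB : IsPBlock M B) {χ : IrrCharacter G} (hχ : χ ∈ B) {h : G}
    (hh : ¬ MemLocalIdeal M (centralChar χ.1 h)) :
    blockDefect p B ≤ (Nat.card (Subgroup.centralizer ({h} : Set G))).factorization p := by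
  obtain ⟨g, hg⟩ := exists_defectClass hB
  obtain ⟨D, hD⟩ := exists_sylIn (p := p) (Subgroup.centralizer ({g} : Set G))
  obtain ⟨Q, hQ⟩ := exists_sylIn (p := p) (Subgroup.centralizer ({h} : Set G))
  obtain ⟨x, hx⟩ := minmax hpM hB hχ hh hg.2.1 hQ (SylIn.isPGroup hD) hD.1
  have hc := Subgroup.card_le_of_le hx
  rw [card_map_conj, hD.2, hQ.2] at hc
  rw [blockDefect_eq hpM hB hg]
  exact (Nat.pow_le_pow_iff_right hp.out.one_lt).1 hc

/-- The classes carrying the pairing between blocks of defect `d`. -/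
def DefectClassSet (p d : ℕ) (C : ConjClasses G) : Prop :=
  ∃ g : G, ConjClasses.mk g = C ∧ ¬ p ∣ orderOf g ∧
    (Nat.card (Subgroup.centralizer ({g} : Set G))).factorization p = d

theorem term_mem_of_not_defectClassSet (hpM : (p : AlgInt) ∈ M) {B : Set (IrrCharacter G)}
    (hB : IsPBlock M B) {ψ : IrrCharacter G} {d : ℕ} (hd : blockDefect p B = d)
    (hψ : blockDefect p (blockOf M ψ.1) = d) (C : ConjClasses G)
    (hC : ¬ DefectClassSet p d C) :
    MemLocalIdeal M ((blockIdem B).coeff C.out * centralChar ψ.1 C.out) := by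
  rw [coeff_blockIdem]
  by_cases hr : IsPRegular p C.out
  swap
  · rw [blockCoeff_eq_zero hpM hB hr, zero_mul]; exact memLocalIdeal_zero
  by_cases hc : MemLocalIdeal M (blockCoeff B C.out)
  · exact MemLocalIdeal.mul_right hc (memLocalRing_centralChar ψ _)
  by_cases hw : MemLocalIdeal M (centralChar ψ.1 C.out)
  · exact MemLocalIdeal.mul_left (memLocalRing_blockCoeff hB _) hw
  exfalso
  refine hC ⟨C.out, Quotient.out_eq C, hr, le_antisymm ?_ ?_⟩
  · rw [← hd]; exact le_blockDefect_of_coeff hpM hB hc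
  · rw [← hψ]; exact blockDefect_le_of_centralChar hpM (isPBlock_blockOf ψ) (mem_blockOf_self ψ) hw

theorem omega_blockIdem_congr (hpM : (p : AlgInt) ∈ M) {B : Set (IrrCharacter G)}
    (hB : IsPBlock M B) {ψ : IrrCharacter G} {d : ℕ} (hd : blockDefect p B = d)
    (hψ : blockDefect p (blockOf M ψ.1) = d) [Fintype (ConjClasses G)] :
    MemLocalIdeal M ((if ψ ∈ B then 1 else 0) -
      ∑ C ∈ Finset.univ.filter (DefectClassSet p d),
        (blockIdem B).coeff C.out * centralChar ψ.1 C.out) := by
  rw [← omega_blockIdem (A := B) (χ := ψ), omega_eq_sum_classes ψ (isCentralElt_blockIdem B),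
    ← Finset.sum_filter_add_sum_filter_not Finset.univ (DefectClassSet p d), add_sub_cancel_left]
  exact MemLocalIdeal.sum _ fun C hC =>
    term_mem_of_not_defectClassSet hpM hB hd hψ C (Finset.mem_filter.1 hC).2

end Cfsg.Agent.BlockLow
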