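import Cfsg.Agent.S4492
import Cfsg.Agent.Lib.Balance.CharP

/-!
# The block over an invariant character of a normal `p'`-subgroup, constrained quotient

`N` is a normal `p'`-subgroup with `C(O_p(G/N)) ≤ O_p(G/N)`; the characters over a `G`-invariant
`θ ∈ Irr N` form one block of full defect (`exists_block_over`).  The hypothesis passes to
centralisers of `p`-subgroups (`centralizer_pCore_le_of_centralizer_range`).
-/

set_option autoImplicit false
set_option linter.style.haveILetI false

open Cfsg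

namespace Cfsg.Agent.FongConstrained

theorem exists_block_over {G : Type*} [Group G] [Fintype G] (p : ℕ) [Fact p.Prime]
    (M : Ideal Cfsg.AlgInt) (hM : Cfsg.IsPModular p M) (N : Subgroup G) [hN : N.Normal] [Fintype N]
    (hNp : ¬ p ∣ Nat.card N)
    (hC : Subgroup.centralizer (pCore p (G ⧸ N) : Set (G ⧸ N)) ≤ pCore p (G ⧸ N))
    (θ : Cfsg.IrrCharacter N)
    (hinv : ∀ (g : G) (n : N), (θ : N → ℂ) ⟨g * n * g⁻¹, hN.conj_mem n n.2 g⟩ = (θ : N → ℂ) n) :
    ∃ B : Set (Cfsg.IrrCharacter G), Cfsg.IsPBlock M B ∧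
      (∀ χ : Cfsg.IrrCharacter G,
        χ ∈ B ↔ Cfsg.classInner (fun n : N => (χ : G → ℂ) n) (θ : N → ℂ) ≠ 0) ∧
      (∀ P : Sylow p G, Cfsg.IsDefectGroup p M B (P : Subgroup G)) ∧
      ∀ D : Subgroup G, Cfsg.IsDefectGroup p M B D → ∃ P : Sylow p G, D = (P : Subgroup G) := by
  classical
  obtain ⟨hp, hmax, hpM⟩ := hM
  haveI := hmax
  set π := QuotientGroup.mk' N with hπ
  set K := pCore p (G ⧸ N) with hK
  set H := K.comap π with hHdef
  haveI : K.Normal := inferInstance
  haveI : H.Normal := Subgroup.Normal.comap inferInstance π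
  have hNH : N ≤ H := fun n hn => by
    rw [hHdef, Subgroup.mem_comap, hπ, QuotientGroup.mk'_apply, (QuotientGroup.eq_one_iff n).2 hn]
    exact K.one_mem
  obtain ⟨k, hk⟩ := IsPGroup.iff_card.1 (PCore.isPGroup_pCore (p := p) (G := G ⧸ N))
  have hidx : (N.subgroupOf H).index = p ^ k := by
    show N.relIndex H = p ^ k
    rw [show N = (⊥ : Subgroup (G ⧸ N)).comap π by
      rw [MonoidHom.comap_bot, hπ, QuotientGroup.ker_mk'], Subgroup.relIndex_comap,
      Subgroup.map_comap_eq_self_of_surjective (QuotientGroup.mk'_surjective N),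
      Subgroup.relIndex_bot_left, hK, hk]
  obtain ⟨ψ, hψ, hψinv⟩ := S4492.exists_invariant_extension hNH
    (by
      rw [show N.relIndex H = p ^ k from hidx]
      exact Nat.Coprime.pow_left k (hp.coprime_iff_not_dvd.2 hNp)) θ hinv
  set Over : IrrCharacter G → Prop := fun χ => classInner (Char.resFun N χ.1) θ.1 ≠ 0 with hOver
  have hin : Char.inertia N θ.1 = ⊤ := eq_top_iff.2 fun a _ =>
    (Char.mem_inertia (N := N)).2 (((Char.conjFun_eq_self_iff N θ.1 a).2 fun n n' h => by
      rw [show n' = ⟨a * n * a⁻¹, hN.conj_mem n n.2 a⟩ from Subtype.ext h]; exact hinv a n))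
  have hval : ∀ χ, Over χ → ∀ n : N, χ.1 n * θ.1 1 = χ.1 1 * θ.1 n := by
    intro χ hχ n
    have hc : (Char.orbitFinset N θ).card = 1 := by
      rw [← Char.index_inertia, hin, Subgroup.index_top]
    obtain ⟨η, hη⟩ := Finset.card_eq_one.1 hc
    have hθη : θ = η := Finset.mem_singleton.1 (hη ▸ (Char.mem_orbitFinset N).2 ⟨1,
      Subtype.ext (Char.conjFun_one N θ.1).symm⟩)
    have h0 := Char.resFun_eq_smul_orbitSum N χ θ hχ
    have h := congrFun h0 n
    have h1 := congrFun h0 1
    simp only [Char.orbitSum, hη, ← hθη, Finset.sum_singleton, Char.resFun_apply, Pi.smul_apply,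
      smul_eq_mul, Subgroup.coe_one] at h h1
    rw [h, h1]; ring
  have hmem : ∀ χ, Over χ → ∀ g : G, IsPRegular p g → g ∉ N →
      MemLocalIdeal M (centralChar χ.1 g) := by
    intro χ hχ g hg hgN
    refine BlockLow.centralChar_mem_of_moved hNH hpM hNp hidx ψ hψ hψinv (fun x hx => ?_) hχ
    obtain ⟨c, rfl⟩ := isConj_iff.1 hx
    by_contra hall
    push Not at hall
    set y : G ⧸ N := ((c * g * c⁻¹ : G) : G ⧸ N) with hy
    have hyC : y ∈ Subgroup.centralizer (K : Set (G ⧸ N)) := by
      refine Subgroup.mem_centralizer_iff.2 fun u hu => ?_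
      obtain ⟨v, rfl⟩ := QuotientGroup.mk'_surjective N u
      have := hall v hu
      rwa [QuotientGroup.mk_inv, mul_inv_eq_iff_eq_mul] at this
    have hyK : y ∈ K := hC hyC
    obtain ⟨j, hj⟩ := IsPGroup.iff_orderOf.1 (PCore.isPGroup_pCore (p := p) (G := G ⧸ N)) ⟨y, hyK⟩
    rw [Subgroup.orderOf_mk] at hj
    have hdvd : orderOf y ∣ orderOf g := by
      have h1 := orderOf_map_dvd π (c * g * c⁻¹)
      rwa [hπ, QuotientGroup.mk'_apply, ← hy,
        show orderOf (c * g * c⁻¹) = orderOf g from (MulAut.conj c).orderOf_eq g] at h1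
    have hj0 : j = 0 := by
      by_contra h0
      exact hg ((dvd_pow_self p h0).trans (hj ▸ hdvd))
    rw [hj0, pow_zero, orderOf_eq_one_iff, hy, QuotientGroup.eq_one_iff] at hj
    refine hgN ?_
    simpa [mul_assoc] using hN.conj_mem _ hj c⁻¹
  have hsame : ∀ χ χ', Over χ → Over χ' → SameBlock M χ.1 χ'.1 := by
    intro χ χ' hχ hχ'
    refine Blocks.sameBlock_of_regular hpM fun g hg => ?_
    by_cases hgN : g ∈ N
    · have h1 := hval χ hχ ⟨g, hgN⟩
      have h2 := hval χ' hχ' ⟨g, hgN⟩
      have e0 := Char.IsIrrCharacter.apply_one_ne_zero χ.2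
      have e0' := Char.IsIrrCharacter.apply_one_ne_zero χ'.2
      have et := Char.IsIrrCharacter.apply_one_ne_zero θ.2
      have : centralChar χ.1 g = centralChar χ'.1 g := by
        simp only [centralChar]
        rw [div_eq_div_iff e0 e0']
        apply mul_right_cancel₀ et
        linear_combination ((Subgroup.centralizer ({g} : Set G)).index : ℂ) * χ'.1 1 * h1 -
          ((Subgroup.centralizer ({g} : Set G)).index : ℂ) * χ.1 1 * h2
      rw [this, sub_self]
      exact Blocks.memLocalIdeal_zero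
    · exact Blocks.MemLocalIdeal.sub (hmem χ hχ g hg hgN) (hmem χ' hχ' g hg hgN)
  -- a member of degree prime to `p`
  obtain ⟨P⟩ := (inferInstance : Nonempty (Sylow p G))
  set T := N ⊔ (P : Subgroup G) with hT
  have hNT : N ≤ T := le_sup_left
  haveI : (N.subgroupOf T).Normal := Subgroup.normal_subgroupOf
  have hTidx : ¬ p ∣ T.index := fun h =>
    P.not_dvd_index (h.trans (Subgroup.index_dvd_of_le le_sup_right))
  obtain ⟨b, hb⟩ : ∃ b, N.relIndex T = p ^ b := by
    obtain ⟨b, hb⟩ := IsPGroup.iff_card.1 P.isPGroup'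
    have : N.relIndex T ∣ p ^ b := by
      rw [hT, sup_comm, Subgroup.relIndex_sup_right]
      exact hb ▸ Subgroup.relIndex_dvd_card N (P : Subgroup G)
    obtain ⟨i, -, hi⟩ := (Nat.dvd_prime_pow hp).1 this
    exact ⟨i, hi⟩
  set e := Subgroup.subgroupOfEquivOfLe hNT
  let θT : IrrCharacter (N.subgroupOf T) :=
    ⟨θ.1 ∘ e.toMonoidHom, Char.IsIrrCharacter.comp_surjective θ.2 e.toMonoidHom e.surjective⟩
  obtain ⟨η, ⟨hη, -⟩, -⟩ := Clifford.existsUnique_extension_of_coprime_card θT
    (fun g => (Char.conjFun_eq_self_iff _ θT.1 g).2 fun n n' h => by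
      show θ.1 (e n') = θ.1 (e n)
      rw [show e n' = ⟨(g : G) * (e n : G) * (g : G)⁻¹, hN.conj_mem _ (e n).2 _⟩ from
        Subtype.ext (congrArg Subtype.val h :)]
      exact hinv (g : G) (e n))
    (by
      show (N.relIndex T).Coprime (Nat.card (N.subgroupOf T))
      rw [hb, Nat.card_congr e.toEquiv]
      exact Nat.Coprime.pow_left b (hp.coprime_iff_not_dvd.2 hNp))
  have hθdeg : ¬ p ∣ Char.degree θ := fun h => hNp (h.trans (Char.degree_dvd_natCard θ))
  obtain ⟨χ₀, hχ₀, hχ₀p⟩ : ∃ χ, Over χ ∧ ¬ p ∣ Char.degree χ := by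
    have hI : IsCharacter G (indFun T η.1) :=
      Char.isCharacter_indFun T (Char.irr_isCharacter η)
    choose m hm using fun χ : IrrCharacter G =>
      Char.IsCharacter.exists_nat_classInner hI (Char.irr_isCharacter χ)
    have hsum : T.index * Char.degree θ = ∑ χ : IrrCharacter G, m χ * Char.degree χ := by
      have h := congrFun (Char.eq_sum_classInner_smul (Char.IsCharacter.isClassFunction hI)) 1
      rw [Char.indFun_apply_one, Finset.sum_apply,
        show η.1 1 = θ.1 1 from (hη 1).trans rfl, Char.apply_one_eq_degree] at h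
      rw [← @Nat.cast_inj ℂ]
      push_cast
      rw [h]
      exact Finset.sum_congr rfl fun χ _ => by
        rw [Pi.smul_apply, hm, Char.apply_one_eq_degree, smul_eq_mul]
    obtain ⟨χ, -, hχ⟩ : ∃ χ ∈ Finset.univ, ¬ p ∣ m χ * Char.degree χ := by
      by_contra! hcon
      rcases hp.dvd_mul.1 (hsum ▸ Finset.dvd_sum hcon) with h | h
      · exact hTidx h
      · exact hθdeg h
    refine ⟨χ, fun h0 => hχ ?_, fun h => hχ (h.mul_left _)⟩
    have h1 := Char.classInner_eq_zero_of_comp (Subgroup.inclusion hNT)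
      (Char.IsCharacter.restrict (Char.irr_isCharacter χ) T) η θ h0
      (by
        rw [show (fun n : N => η.1 (Subgroup.inclusion hNT n)) = θ.1 from
          funext fun n => hη ⟨⟨n, hNT n.2⟩, n.2⟩, Char.classInner_irr_self θ.2]
        exact one_ne_zero)
    have h2 := hm χ
    rw [Char.classInner_indFun T η.1 (Char.IsCharacter.isClassFunction (Char.irr_isCharacter χ)),
      ← Char.conj_classInner, h1, map_zero] at h2
    rw [show m χ = 0 by exact_mod_cast h2.symm, zero_mul]
    exact dvd_zero p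
  set B := blockOf M χ₀.1 with hBdef
  have hB : IsPBlock M B := ⟨χ₀, rfl⟩
  have hiff : ∀ χ : IrrCharacter G, χ ∈ B ↔ Over χ := by
    refine fun χ => ⟨fun hχ => ?_, fun h => hsame χ₀ χ hχ₀ h⟩
    exact BlockLow.over_of_sameBlock hNH hpM hNp ψ hψ hψinv hχ₀ hχ
  have hdef : blockDefect p B = (Nat.card G).factorization p := by
    have : sInf ((fun χ : IrrCharacter G => (charDegree (χ : G → ℂ)).factorization p) '' B) = 0 :=
      Nat.sInf_eq_zero.2 (Or.inl ⟨χ₀, (hiff χ₀).2 hχ₀, by
        show (charDegree χ₀.1).factorization p = 0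
        rw [Blocks.charDegree_eq]
        exact Nat.factorization_eq_zero_of_not_dvd hχ₀p⟩)
    simp only [blockDefect, this, Nat.sub_zero]
  have hsyl : ∀ D : Subgroup G, IsDefectGroup p M B D → ∃ Q : Sylow p G, D = (Q : Subgroup G) := by
    intro D hD
    have hc := Blocks.card_defectGroup hpM hB hD
    rw [hdef] at hc
    exact ⟨Sylow.ofCard D hc, rfl⟩
  refine ⟨B, hB, fun χ => hiff χ, fun Q => ?_, hsyl⟩
  obtain ⟨D, hD⟩ := Blocks.exists_defectGroup (p := p) hB
  obtain ⟨Q₀, rfl⟩ := hsyl D hD
  obtain ⟨x, hx⟩ := MulAction.exists_smul_eq G Q₀ Q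
  rw [← hx]
  exact Blocks.IsDefectGroup.conj hD x


/-- Centralisers of `p`-subgroups inherit a self-centralising `O_p`. -/
theorem centralizer_pCore_le_of_centralizer_range {p : ℕ} [Fact p.Prime] {X : Type*} [Group X]
    [Finite X] (hX : Subgroup.centralizer (pCore p X : Set X) ≤ pCore p X) {R : Subgroup X}
    (hR : IsPGroup p R) {Y : Type*} [Group Y] [Finite Y] (f : Y →* X) (hf : Function.Injective f)
    (hrange : f.range = Subgroup.centralizer (R : Set X)) :
    Subgroup.centralizer (pCore p Y : Set Y) ≤ pCore p Y := by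
  set D : Subgroup Y := (pCore p X).comap f with hD
  have hDp : IsPGroup p D := PCore.isPGroup_pCore.comap_of_injective f hf
  haveI hDn : D.Normal := Subgroup.Normal.comap inferInstance f
  have hZp : IsPGroup p (Subgroup.centralizer (D : Set Y)) := by
    refine IsPGroup.iff_orderOf.2 fun z => ?_
    rw [Subgroup.orderOf_coe z |>.symm]
    set n := orderOf (z : Y) with hn
    have hnp : 0 < n := orderOf_pos _
    set m := p ^ n.factorization p with hm
    set w : X := f ((z : Y) ^ m) with hw
    have hwo : (orderOf w).Coprime p := by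
      rw [hw, orderOf_injective f hf, orderOf_pow_of_dvd (pow_ne_zero _ (Fact.out : p.Prime).ne_zero)
        (Nat.ordProj_dvd _ _)]
      exact (Nat.coprime_ordCompl Fact.out hnp.ne').symm
    have hwR : ∀ r ∈ R, Commute w r := fun r hr => by
      have : w ∈ f.range := ⟨_, rfl⟩
      rw [hrange] at this
      exact (Subgroup.mem_centralizer_iff.1 this r hr).symm
    have hfix : ∀ c ∈ pCore p X, Commute w c := by
      refine Balance.commute_of_commute_fixed PCore.isPGroup_pCore hR
        (by rw [Subgroup.normalizer_eq_top]; exact le_top)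
        (by rw [Subgroup.normalizer_eq_top]; exact Subgroup.mem_top _) hwo hwR fun c hc hcR => ?_
      obtain ⟨d, rfl⟩ : c ∈ f.range := by
        rw [hrange]
        exact Subgroup.mem_centralizer_iff.2 fun r hr => hcR r hr
      have hd : d ∈ D := hc
      have := Subgroup.mem_centralizer_iff.1
        ((Subgroup.centralizer (D : Set Y)).pow_mem z.2 m) d hd
      exact (congrArg f this.symm).trans (map_mul f d _) |> fun h => by
        rw [hw]
        exact (map_mul f _ _).symm.trans h
    have hwQ : w ∈ pCore p X :=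
      hX (Subgroup.mem_centralizer_iff.2 fun c hc => (hfix c hc).symm)
    obtain ⟨j, hj⟩ := IsPGroup.iff_orderOf.1 (PCore.isPGroup_pCore (p := p) (G := X)) ⟨w, hwQ⟩
    rw [Subgroup.orderOf_mk] at hj
    have h1 : orderOf w = 1 := by
      rcases j with _ | j
      · rw [hj, pow_zero]
      · rw [hj] at hwo
        exact absurd (Nat.Coprime.coprime_dvd_left (dvd_pow_self p j.succ_ne_zero) hwo)
          (by rw [Nat.coprime_self]; exact (Fact.out : p.Prime).one_lt.ne')
    rw [orderOf_eq_one_iff, hw, map_eq_one_iff f hf] at h1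
    obtain ⟨i, -, hi⟩ := (Nat.dvd_prime_pow Fact.out).1 (hn ▸ orderOf_dvd_of_pow_eq_one h1)
    exact ⟨i, hi⟩
  have hDle : D ≤ pCore p Y := (PCore.pCore_le_iff.1 le_rfl) D hDn hDp
  refine (Subgroup.centralizer_le (SetLike.coe_subset_coe.2 hDle)).trans ?_
  haveI : (Subgroup.centralizer (D : Set Y)).Normal := Subgroup.normal_centralizer
  exact (PCore.pCore_le_iff.1 le_rfl) _ inferInstance hZp

end Cfsg.Agent.FongConstrained
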