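import Cfsg.Agent.Lib.Blocks.Core
import Cfsg.Agent.Lib.Char.Clifford
import Cfsg.Agent.Lib.Char.CliffordCorrespondence
import Cfsg.Agent.Lib.Char.Twist
import Cfsg.Agent.Lib.CharInt.Basic
import Cfsg.Agent.Lib.PCore.HallHigman
import Cfsg.Agent.Lib.Char.Gallagher
import Mathlib.RingTheory.PrincipalIdealDomain
import Mathlib.Algebra.Module.ZMod
import Mathlib.LinearAlgebra.FreeModule.Finite.Basic

/-!
# Invariant characters of normal `p'`-subgroups and classes moved by a `p`-section

`N ≤ H` are normal, `N` has order prime to `p`, `H / N` is a `p`-group and `θ ∈ Irr N` has an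
invariant extension to `H`. If the image of the class of `g` in `G / N` has no element centralised
by `H / N`, the central characters of the characters over `θ` vanish at `g` modulo `M`.
-/

set_option linter.unusedSectionVars false
set_option linter.style.haveILetI false

namespace Cfsg.Agent.BlockLow

open Cfsg Cfsg.Agent.Char Cfsg.Agent.Blocks MonoidAlgebra
open scoped ComplexConjugate Classical Cfsg.Agent.Blocks

universe u

variable {G : Type u} [Group G] [Fintype G] {p : ℕ} [hp : Fact p.Prime] {M : Ideal AlgInt}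

/-- A finite `p`-group acting on an abelian group of exponent `p` fixes a nonzero element of every
nonzero invariant subgroup. -/
theorem exists_fixed_of_isPGroup {Q : Type*} [Group Q] [Finite Q] (hQ : IsPGroup p Q) {V : Type*}
    [AddCommGroup V] [Module (ZMod p) V] [MulAction Q V]
    (hadd : ∀ (q : Q) (a b : V), q • (a + b) = q • a + q • b) {v : V} (hv : v ≠ 0) :
    ∃ w ∈ Submodule.span (ZMod p) (Set.range fun q : Q => q • v), w ≠ 0 ∧ ∀ q : Q, q • w = w := by
  set W := Submodule.span (ZMod p) (Set.range fun q : Q => q • v) with hW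
  haveI : NeZero p := ⟨hp.out.ne_zero⟩
  haveI : Module.Finite (ZMod p) W := Module.Finite.span_of_finite (ZMod p) (Set.finite_range _)
  haveI : Finite W := Module.finite_of_finite (ZMod p)
  have hzero : ∀ q : Q, q • (0 : V) = 0 := fun q => by
    have := hadd q 0 0
    rw [add_zero] at this
    exact left_eq_add.1 this
  have hstab : ∀ (q : Q) (w : V), w ∈ W → q • w ∈ W := by
    intro q w hw
    let f : V →+ V := { toFun := fun a => q • a, map_zero' := hzero q, map_add' := hadd q }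
    induction hw using Submodule.span_induction with
    | mem a ha =>
      obtain ⟨r, rfl⟩ := ha
      exact Submodule.subset_span ⟨q * r, mul_smul q r v⟩
    | zero => rw [hzero]; exact W.zero_mem
    | add a b _ _ ha hb => rw [hadd]; exact W.add_mem ha hb
    | smul c a _ ha =>
      rw [show q • (c • a) = c • (q • a) from ZMod.map_smul f c a]
      exact W.smul_mem c ha
  letI : MulAction Q W :=
    { smul := fun q w => ⟨q • (w : V), hstab q w w.2⟩
      one_smul := fun w => Subtype.ext (one_smul Q (w : V))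
      mul_smul := fun q r w => Subtype.ext (mul_smul q r (w : V)) }
  have hvW : v ∈ W := Submodule.subset_span ⟨1, one_smul Q v⟩
  have hpd : p ∣ Nat.card W := by
    rw [Module.natCard_eq_pow_finrank (K := ZMod p), Nat.card_zmod]
    refine dvd_pow_self p fun h0 => hv ?_
    haveI := Module.finrank_zero_iff.1 h0
    exact congrArg Subtype.val (Subsingleton.elim (⟨v, hvW⟩ : W) 0)
  obtain ⟨w, hw, hne⟩ := hQ.exists_fixed_point_of_prime_dvd_card_of_fixed_point W hpd
    (a := 0) fun q => Subtype.ext (hzero q)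
  exact ⟨w, w.2, fun h => hne (Subtype.ext h.symm), fun q => congrArg Subtype.val (hw q)⟩

variable {N H : Subgroup G} [N.Normal] [H.Normal] [Fintype N] (hNH : N ≤ H)

/-- `(θ 1 / |N|) ∑ conj (ψ x) x` over the coset `h N`. -/
noncomputable def sElt (N H : Subgroup G) (ψ : H → ℂ) (h : G) : MonoidAlgebra ℂ G :=
  ofFun fun x => if h⁻¹ * x ∈ N then ψ 1 / (Nat.card N : ℂ) * conj (extendByZero H ψ x) else 0

theorem coeff_sElt (ψ : H → ℂ) (h x : G) : (sElt N H ψ h).coeff x =
    if h⁻¹ * x ∈ N then ψ 1 / (Nat.card N : ℂ) * conj (extendByZero H ψ x) else 0 := by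
  simp [sElt]

theorem sElt_coset (ψ : H → ℂ) (h : G) {n : G} (hn : n ∈ N) :
    sElt N H ψ (h * n) = sElt N H ψ h := by
  refine alg_ext fun x => ?_
  rw [coeff_sElt, coeff_sElt]
  congr 1
  rw [mul_inv_rev, mul_assoc]
  exact propext (Subgroup.mul_mem_cancel_left _ (inv_mem hn))

theorem scoeff_sElt [M.IsMaximal] (hpM : (p : AlgInt) ∈ M) (hN : ¬ p ∣ Nat.card N)
    (ψ : IrrCharacter H) (h : G) : SCoeff M (sElt N H ψ.1 h) := by
  intro x
  rw [coeff_sElt]
  split_ifs
  · have hi := CharInt.isIntegral_char (irr_isCharacter ψ)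
    refine MemLocalRing.mul ?_ (memLocalRing_of_isIntegral ?_)
    · rw [div_eq_mul_inv]
      exact MemLocalRing.mul (memLocalRing_of_isIntegral (hi 1)) (memLocalRing_inv_natCast hpM hN)
    · by_cases hx : x ∈ H
      · rw [extendByZero_coe H ψ.1 ⟨x, hx⟩, IsCharacter.conj_apply (irr_isCharacter ψ)]
        exact hi _
      · rw [extendByZero_of_notMem H _ hx, map_zero]; exact isIntegral_zero
  · exact memLocalRing_zero

include hNH in
theorem sElt_mul (ψ : IrrCharacter H)
    (hres : IsIrrCharacter N (fun n : N => ψ.1 ⟨n, hNH n.2⟩)) {a b : G} (ha : a ∈ H) (hb : b ∈ H) :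
    sElt N H ψ.1 a * sElt N H ψ.1 b = sElt N H ψ.1 (a * b) := by
  refine alg_ext fun x => ?_
  rw [coeff_mul_eq_sum, coeff_sElt]
  set c := ψ.1 1 / (Nat.card N : ℂ) with hc
  have hnb : ∀ n : G, n ∈ N → (b⁻¹ * ((a * n)⁻¹ * x) ∈ N ↔ (a * b)⁻¹ * x ∈ N) := by
    intro n hn
    rw [show b⁻¹ * ((a * n)⁻¹ * x) = (b⁻¹ * n⁻¹ * b) * ((a * b)⁻¹ * x) by group]
    exact Subgroup.mul_mem_cancel_left _ (by
      simpa using ‹N.Normal›.conj_mem _ (inv_mem hn) b⁻¹)
  have h1 : ∑ y : G, (sElt N H ψ.1 a).coeff y * (sElt N H ψ.1 b).coeff (y⁻¹ * x) =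
      ∑ n : N, (sElt N H ψ.1 a).coeff (a * n) * (sElt N H ψ.1 b).coeff ((a * (n : G))⁻¹ * x) := by
    rw [← Fintype.sum_equiv (Equiv.mulLeft a) (fun y => (sElt N H ψ.1 a).coeff (a * y) *
      (sElt N H ψ.1 b).coeff ((a * y)⁻¹ * x)) _ fun y => rfl]
    rw [← Finset.sum_filter_add_sum_filter_not Finset.univ (· ∈ N),
      Finset.sum_eq_zero (s := Finset.univ.filter fun y => ¬ y ∈ N) fun y hy => by
        rw [coeff_sElt, if_neg, zero_mul]
        simpa using (Finset.mem_filter.1 hy).2,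
      add_zero]
    exact Finset.sum_subtype _ (by simp) _
  rw [h1]
  split_ifs with hx
  · have hxH : x ∈ H := by
      have := H.mul_mem (H.mul_mem ha hb) (hNH hx)
      rwa [mul_inv_cancel_left] at this
    obtain ⟨d, ρ, hρ, hρψ⟩ := ψ.2
    set σ : Representation ℂ N (Fin d → ℂ) := ρ.comp (Subgroup.inclusion hNH) with hσ
    haveI : σ.IsIrreducible := isIrreducible_of_classInner_eq_one σ (by
      rw [show σ.character = fun n : N => ψ.1 ⟨n, hNH n.2⟩ by rw [← hρψ]; rfl]
      exact classInner_irr_self hres)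
    have key := sum_trace_mul_trace σ (ρ ⟨a, ha⟩) (ρ ⟨a⁻¹ * x, H.mul_mem (H.inv_mem ha) hxH⟩)
    rw [← map_mul] at key
    have hd : ψ.1 1 = (d : ℂ) := by rw [← hρψ]; simp
    have hd0 : (d : ℂ) ≠ 0 := hd ▸ IsIrrCharacter.apply_one_ne_zero ψ.2
    have hterm : ∀ n : N, (sElt N H ψ.1 a).coeff (a * n) *
        (sElt N H ψ.1 b).coeff ((a * (n : G))⁻¹ * x) = c * c * conj
          (LinearMap.trace ℂ _ (ρ ⟨a, ha⟩ * σ n) *
            LinearMap.trace ℂ _ (σ n⁻¹ * ρ ⟨a⁻¹ * x, H.mul_mem (H.inv_mem ha) hxH⟩)) := by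
      intro n
      have h2 : (a * (n : G))⁻¹ * x ∈ H :=
        H.mul_mem (H.inv_mem (H.mul_mem ha (hNH n.2))) hxH
      rw [coeff_sElt, coeff_sElt, if_pos (by rw [inv_mul_cancel_left]; exact n.2),
        if_pos ((hnb n n.2).2 hx), ← hc]
      rw [show extendByZero H ψ.1 (a * n) = ψ.1 ⟨a * n, H.mul_mem ha (hNH n.2)⟩ from
          extendByZero_coe H ψ.1 ⟨a * n, H.mul_mem ha (hNH n.2)⟩,
        show extendByZero H ψ.1 ((a * (n : G))⁻¹ * x) = ψ.1 ⟨_, h2⟩ from
          extendByZero_coe H ψ.1 ⟨_, h2⟩]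
      rw [← hρψ, hσ]
      simp only [Representation.character, MonoidHom.comp_apply, ← map_mul]
      rw [show (⟨a, ha⟩ : H) * Subgroup.inclusion hNH n = ⟨a * n, H.mul_mem ha (hNH n.2)⟩ from rfl,
        show Subgroup.inclusion hNH n⁻¹ * (⟨a⁻¹ * x, H.mul_mem (H.inv_mem ha) hxH⟩ : H) =
          ⟨(a * (n : G))⁻¹ * x, h2⟩ from Subtype.ext (by simp [mul_assoc]), map_mul]
      ring
    rw [Finset.sum_congr rfl fun n _ => hterm n, ← Finset.mul_sum, ← map_sum]
    have key2 : ∑ n : N, LinearMap.trace ℂ _ (ρ ⟨a, ha⟩ * σ n) *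
        LinearMap.trace ℂ _ (σ n⁻¹ * ρ ⟨a⁻¹ * x, H.mul_mem (H.inv_mem ha) hxH⟩) =
        (Nat.card N : ℂ) / d * extendByZero H ψ.1 x := by
      rw [show extendByZero H ψ.1 x = ψ.1 ⟨x, hxH⟩ from extendByZero_coe H ψ.1 ⟨x, hxH⟩, ← hρψ,
        div_mul_eq_mul_div, eq_div_iff hd0, mul_comm _ (d : ℂ), key]
      congr 3
      exact Subtype.ext (mul_inv_cancel_left a x)
    rw [key2, map_mul, map_div₀, map_natCast, map_natCast, hc, hd]
    field_simp [Char.card_ne_zero (G := N)]
  · refine Finset.sum_eq_zero fun n _ => ?_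
    rw [coeff_sElt (N := N) ψ.1 b, if_neg (fun h => hx ((hnb n n.2).1 h)), mul_zero]

theorem single_mul_sElt (ψ : H → ℂ) (hinv : ∀ g y : G, extendByZero H ψ (g * y * g⁻¹) =
    extendByZero H ψ y) (g h : G) :
    MonoidAlgebra.single g (1 : ℂ) * sElt N H ψ h =
      sElt N H ψ (g * h * g⁻¹) * MonoidAlgebra.single g 1 := by
  refine alg_ext fun x => ?_
  rw [coeff_single_mul', coeff_mul_single', one_mul, mul_one, coeff_sElt, coeff_sElt]
  rw [← hinv g (g⁻¹ * x), show g * (g⁻¹ * x) * g⁻¹ = x * g⁻¹ by group]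
  congr 1
  rw [show (g * h * g⁻¹)⁻¹ * (x * g⁻¹) = g * (h⁻¹ * (g⁻¹ * x)) * g⁻¹ by group]
  exact propext ⟨fun hm => ‹N.Normal›.conj_mem _ hm g, fun hm => by
    simpa [mul_assoc] using ‹N.Normal›.conj_mem _ hm g⁻¹⟩

section Nilp

variable {F : Type*} [Field F] [CharP F p]

include hNH in
/-- A class sum moved by `H / N` times the idempotent `s 1` is nilpotent. -/
theorem isNilpotent_classSum_mul {k : ℕ} (hidx : (N.subgroupOf H).index = p ^ k)
    (s : G → MonoidAlgebra F G) (hmul : ∀ a b : G, a ∈ H → b ∈ H → s a * s b = s (a * b))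
    (hcoset : ∀ h n : G, n ∈ N → s (h * n) = s h)
    (hconj : ∀ a h : G, MonoidAlgebra.single a (1 : F) * s h =
      s (a * h * a⁻¹) * MonoidAlgebra.single a 1)
    (hsupp : ∀ h y : G, h⁻¹ * y ∉ N → (s h).coeff y = 0)
    (hcentral : ∀ w, s 1 * w = w * s 1) {g : G}
    (hmov : ∀ x, IsConj g x → ∃ u ∈ H, (u * x * u⁻¹ : G ⧸ N) ≠ (x : G ⧸ N)) :
    IsNilpotent (classSum F g * s 1) := by
  haveI : (N.subgroupOf H).Normal := Subgroup.normal_subgroupOf
  set Z := classSum F g * s 1 with hZ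
  have hZc : ∀ w, Z * w = w * Z := fun w => by
    rw [hZ, mul_assoc, hcentral, ← mul_assoc, ((isCentralElt_classSum g).commute w).eq, mul_assoc]
  haveI : Module.Finite F (MonoidAlgebra F G) :=
    Module.Finite.of_surjective (∑ x : G, (LinearMap.proj (R := F) (φ := fun _ : G => F) x).smulRight
      (MonoidAlgebra.single x (1 : F))) fun w => ⟨fun x => w.coeff x, by
        conv_rhs => rw [eq_sum_single w]
        simp [MonoidAlgebra.smul_single]⟩
  obtain ⟨n, hn⟩ := Filter.eventually_atTop.1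
    (Module.End.eventually_disjoint_ker_pow_range_pow (LinearMap.mulLeft F Z))
  have hdis := hn (n + 1) (Nat.le_succ n)
  refine ⟨n + 1, ?_⟩
  by_contra hne
  have hpow : ∀ y, ((LinearMap.mulLeft F Z) ^ (n + 1)) y = Z ^ (n + 1) * y := by
    intro y; rw [LinearMap.pow_mulLeft]; rfl
  have hZcomm : ∀ w, Z ^ (n + 1) * w = w * Z ^ (n + 1) := fun w =>
    ((show Commute Z w from hZc w).pow_left _).eq
  have heZ : s 1 * Z ^ (n + 1) = Z ^ (n + 1) := by
    rw [pow_succ', ← mul_assoc]
    congr 1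
    rw [hZ, ← mul_assoc, hcentral (classSum F g), mul_assoc, hmul 1 1 H.one_mem H.one_mem, mul_one]
  -- a Sylow subgroup of `H`
  let P : Sylow p H := default
  set Q := (P : Subgroup H).map H.subtype with hQdef
  have hQH : Q ≤ H := Subgroup.map_subtype_le _
  have hQp : IsPGroup p Q := IsPGroup.map P.isPGroup' _
  have hHQ : ∀ h ∈ H, ∃ q ∈ Q, ∃ m ∈ N, q * m = h := by
    intro h hh
    obtain ⟨q, hq, m, hm, hqm⟩ := Subgroup.mem_sup_of_normal_right.1
      ((PCore.sylow_sup_eq_top P (N.subgroupOf H) hidx).ge (Subgroup.mem_top (⟨h, hh⟩ : H)))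
    exact ⟨q, ⟨q, hq, rfl⟩, m, Subgroup.mem_subgroupOf.1 hm, congrArg Subtype.val hqm⟩
  -- the action on `Z ^ (n + 1) F[G]`
  let V : Submodule F (MonoidAlgebra F G) := LinearMap.range ((LinearMap.mulLeft F Z) ^ (n + 1))
  have hVmul : ∀ a, ∀ w ∈ V, a * w ∈ V := by
    rintro a w ⟨y, rfl⟩
    refine ⟨a * y, ?_⟩
    rw [hpow, hpow, ← mul_assoc, ← mul_assoc, hZcomm a]
  have hVe : ∀ w ∈ V, s 1 * w = w := by
    rintro w ⟨y, rfl⟩
    rw [hpow, ← mul_assoc, heZ]
  letI : MulAction Q V :=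
    { smul := fun q w => ⟨s (q : G) * w.1, hVmul _ _ w.2⟩
      one_smul := fun w => Subtype.ext (hVe w.1 w.2)
      mul_smul := fun q r w => Subtype.ext (by
        show s ((q : G) * (r : G)) * w.1 = s (q : G) * (s (r : G) * w.1)
        rw [← mul_assoc, hmul _ _ (hQH q.2) (hQH r.2)]) }
  letI : AddCommGroup V := Submodule.addCommGroup V
  letI : Module (ZMod p) V := AddCommGroup.zmodModule fun w : V => Subtype.ext (by
    show p • w.1 = 0
    exact nsmul_charP_eq_zero w.1)
  obtain ⟨⟨w, hwV⟩, -, hw0, hwQ⟩ := exists_fixed_of_isPGroup (Q := Q) hQp (V := V)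
    (fun q a b => Subtype.ext (mul_add (s (q : G)) a.1 b.1))
    (v := ⟨Z ^ (n + 1), ⟨1, by rw [hpow, mul_one]⟩⟩) (fun h => hne (congrArg Subtype.val h))
  have hfix : ∀ h ∈ H, s h * w = w := by
    intro h hh
    obtain ⟨q, hq, m, hm, rfl⟩ := hHQ h hh
    rw [hcoset q m hm]
    exact congrArg Subtype.val (hwQ ⟨q, hq⟩)
  have hfixG : ∀ (a : G) (h : G), h ∈ H →
      s h * (MonoidAlgebra.single a (1 : F) * w) = MonoidAlgebra.single a 1 * w := by
    intro a h hh
    have h2 : a⁻¹ * h * a ∈ H := by simpa using ‹H.Normal›.conj_mem h hh a⁻¹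
    rw [← mul_assoc, show s h * MonoidAlgebra.single a (1 : F) =
      MonoidAlgebra.single a 1 * s (a⁻¹ * h * a) by
        rw [hconj, show a * (a⁻¹ * h * a) * a⁻¹ = h by group], mul_assoc, hfix _ h2]
  -- the class sum by cosets
  let T : G ⧸ N → MonoidAlgebra F G := fun C =>
    ∑ x ∈ Finset.univ.filter (fun x : G => (x : G ⧸ N) = C),
      MonoidAlgebra.single x ((classSum F g).coeff x)
  have hTconj : ∀ (a : G) (C : G ⧸ N),
      MonoidAlgebra.single a (1 : F) * T C * MonoidAlgebra.single a⁻¹ 1 =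
        T ((a : G ⧸ N) * C * (a : G ⧸ N)⁻¹) := by
    intro a C
    simp only [T, Finset.mul_sum, Finset.sum_mul, MonoidAlgebra.single_mul_single, one_mul, mul_one]
    refine Finset.sum_bij' (fun x _ => a * x * a⁻¹) (fun x _ => a⁻¹ * x * a) ?_ ?_
      (fun x _ => by group) (fun x _ => by group) fun x _ => ?_
    · intro x hx
      simp only [Finset.mem_filter, Finset.mem_univ, true_and] at hx ⊢
      simp [hx]
    · intro x hx
      simp only [Finset.mem_filter, Finset.mem_univ, true_and] at hx ⊢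
      simp [hx, mul_assoc]
    · rw [isCentralElt_classSum g x a]
  have hTN : ∀ (m : G), m ∈ N → ∀ C, MonoidAlgebra.single m (1 : F) * T C =
      T C * MonoidAlgebra.single m 1 := by
    intro m hm C
    conv_rhs => rw [show T C = T (((m : G) : G ⧸ N) * C * ((m : G) : G ⧸ N)⁻¹) by
      rw [(QuotientGroup.eq_one_iff m).2 hm, one_mul, inv_one, mul_one], ← hTconj, mul_assoc,
      MonoidAlgebra.single_mul_single, inv_mul_cancel, one_mul, ← MonoidAlgebra.one_def, mul_one]
  have hTw : ∀ (C : G ⧸ N) (h : G), h ∈ H → s h * (T C * w) = T C * w := by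
    intro C h hh
    simp only [T, Finset.sum_mul, Finset.mul_sum]
    refine Finset.sum_congr rfl fun x _ => ?_
    rw [show MonoidAlgebra.single x ((classSum F g).coeff x) =
      (classSum F g).coeff x • MonoidAlgebra.single x (1 : F) by
        rw [MonoidAlgebra.smul_single, smul_eq_mul, mul_one], smul_mul_assoc, mul_smul_comm,
      hfixG x h hh]
  letI : MulAction Q (G ⧸ N) :=
    MulAction.compHom (G ⧸ N) ((MulAut.conj (G := G ⧸ N)).comp ((QuotientGroup.mk' N).comp Q.subtype))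
  have hact : ∀ (q : Q) (C : G ⧸ N),
      q • C = ((q : G) : G ⧸ N) * C * (((q : G) : G ⧸ N))⁻¹ := fun q C => rfl
  haveI := Fintype.ofFinite (G ⧸ N)
  have hK : classSum F g = ∑ C : G ⧸ N, T C := by
    simp only [T]
    rw [Finset.sum_fiberwise Finset.univ (fun x : G => (x : G ⧸ N))
      (fun x => MonoidAlgebra.single x ((classSum F g).coeff x)), ← eq_sum_single]
  have hzero : classSum F g * w = 0 := by
    rw [hK, Finset.sum_mul, sum_eq_sum_fixedPoints hQp nsmul_charP_eq_zero]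
    · refine Finset.sum_eq_zero fun C hC => ?_
      rw [show T C = 0 from Finset.sum_eq_zero fun x hx => ?_, zero_mul]
      rw [coeff_classSum, if_neg, MonoidAlgebra.single_zero]
      intro hx'
      obtain ⟨u, hu, hne'⟩ := hmov x hx'
      obtain ⟨q, hq, m, hm, rfl⟩ := hHQ u hu
      refine hne' ?_
      have := (Finset.mem_filter.1 hC).2 ⟨q, hq⟩
      rw [hact, ← (Finset.mem_filter.1 hx).2] at this
      simpa [(QuotientGroup.eq_one_iff m).2 hm, mul_assoc] using this
    · intro q C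
      have hd : MonoidAlgebra.single ((q : G))⁻¹ (1 : F) * s q * T C =
          T C * (MonoidAlgebra.single ((q : G))⁻¹ (1 : F) * s q) := by
        set d := MonoidAlgebra.single ((q : G))⁻¹ (1 : F) * s q with hddef
        rw [eq_sum_single d, Finset.sum_mul, Finset.mul_sum]
        refine Finset.sum_congr rfl fun y _ => ?_
        by_cases hy : y ∈ N
        · rw [show MonoidAlgebra.single y (d.coeff y) = d.coeff y • MonoidAlgebra.single y (1 : F) by
            rw [MonoidAlgebra.smul_single, smul_eq_mul, mul_one], smul_mul_assoc, mul_smul_comm,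
            hTN y hy]
        · have : d.coeff y = 0 := by
            rw [hddef, coeff_single_mul', one_mul, inv_inv]
            exact hsupp _ _ (by rwa [inv_mul_cancel_left])
          rw [this, MonoidAlgebra.single_zero, zero_mul, mul_zero]
      have hsq := hfix (q : G) (hQH q.2)
      rw [hact, ← hTconj (q : G) C]
      calc MonoidAlgebra.single (q : G) (1 : F) * T C * MonoidAlgebra.single ((q : G))⁻¹ 1 * w
          = MonoidAlgebra.single (q : G) 1 * T C *
              (MonoidAlgebra.single ((q : G))⁻¹ 1 * (s q * w)) := by rw [hsq, mul_assoc]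
        _ = MonoidAlgebra.single (q : G) 1 *
              (MonoidAlgebra.single ((q : G))⁻¹ 1 * s q * T C) * w := by
            rw [hd]; simp only [mul_assoc]
        _ = s q * (T C * w) := by
            simp only [← mul_assoc, MonoidAlgebra.single_mul_single, mul_inv_cancel, one_mul,
              ← MonoidAlgebra.one_def]
        _ = T C * w := hTw C q (hQH q.2)
  refine hw0 (Subtype.ext ?_)
  show w = 0
  refine Submodule.disjoint_def.1 hdis w ?_ hwV
  rw [LinearMap.mem_ker, hpow, pow_succ, mul_assoc]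
  suffices Z * w = 0 by rw [this, mul_zero]
  rw [hZ, mul_assoc, hVe w hwV, hzero]

end Nilp

include hNH in
theorem omega_sElt_one_eq {θ : IrrCharacter N} (ψ : IrrCharacter H)
    (hext : ∀ n : N, ψ.1 ⟨n, hNH n.2⟩ = θ.1 n) (χ : IrrCharacter G) :
    omega χ.1 (sElt N H ψ.1 1) = θ.1 1 * classInner (resFun N χ.1) θ.1 / χ.1 1 := by
  have hψ1 : ψ.1 1 = θ.1 1 := hext 1
  rw [omega, chiL_eq_sum]
  congr 1
  rw [← Finset.sum_filter_add_sum_filter_not Finset.univ (· ∈ N),
    Finset.sum_eq_zero (s := Finset.univ.filter fun y => ¬ y ∈ N) fun y hy => by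
      rw [coeff_sElt, if_neg (by simpa using (Finset.mem_filter.1 hy).2), zero_mul],
    add_zero, Finset.sum_subtype _ (by simp : ∀ y : G, y ∈ Finset.univ.filter (· ∈ N) ↔ y ∈ N)]
  rw [Finset.sum_congr rfl fun (n : N) _ => (show (sElt N H ψ.1 1).coeff (n : G) * χ.1 n =
      θ.1 1 / (Nat.card N : ℂ) * (resFun N χ.1 n * conj (θ.1 n)) by
    rw [coeff_sElt, if_pos (by simp), extendByZero_coe H ψ.1 ⟨n, hNH n.2⟩, hext, hψ1,
      resFun_apply]
    ring), ← Finset.mul_sum, classInner]
  ring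

include hNH in
theorem omega_sElt_one {θ : IrrCharacter N} (ψ : IrrCharacter H)
    (hext : ∀ n : N, ψ.1 ⟨n, hNH n.2⟩ = θ.1 n)
    (hinv : ∀ g y : G, extendByZero H ψ.1 (g * y * g⁻¹) = extendByZero H ψ.1 y)
    {χ : IrrCharacter G} (hover : classInner (resFun N χ.1) θ.1 ≠ 0) :
    omega χ.1 (sElt N H ψ.1 1) = 1 := by
  have hψinvθ : inertia N θ.1 = ⊤ := by
    refine eq_top_iff.2 fun a _ => (mem_inertia N).2 (funext fun n => ?_)
    have := hinv a n
    rw [extendByZero_coe H ψ.1 ⟨n, hNH n.2⟩] at this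
    rw [show extendByZero H ψ.1 (a * n * a⁻¹) = ψ.1 ⟨a * n * a⁻¹,
      hNH (‹N.Normal›.conj_mem n n.2 a)⟩ from extendByZero_coe H ψ.1 ⟨_, _⟩,
      hext ⟨a * n * a⁻¹, ‹N.Normal›.conj_mem n n.2 a⟩, hext] at this
    exact this
  have hdeg := apply_one_eq_mul_card_orbit N χ θ hover
  rw [← index_inertia, hψinvθ, Subgroup.index_top, Nat.cast_one, one_mul] at hdeg
  rw [omega_sElt_one_eq hNH ψ hext, div_eq_one_iff_eq (IsIrrCharacter.apply_one_ne_zero χ.2), hdeg,
    mul_comm]

theorem isCentralElt_sElt_one (ψ : H → ℂ)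
    (hinv : ∀ g y : G, extendByZero H ψ (g * y * g⁻¹) = extendByZero H ψ y) :
    IsCentralElt (sElt N H ψ 1) := fun x a => by
  rw [coeff_sElt, coeff_sElt, hinv a x]
  congr 1
  simp only [inv_one, one_mul]
  exact propext ⟨fun hm => by simpa [mul_assoc] using ‹N.Normal›.conj_mem _ hm a⁻¹,
    fun hm => ‹N.Normal›.conj_mem _ hm a⟩

include hNH in
/-- A block containing a character over `θ` has only characters over `θ`. -/
theorem over_of_sameBlock [M.IsMaximal] (hpM : (p : AlgInt) ∈ M) (hN : ¬ p ∣ Nat.card N)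
    {θ : IrrCharacter N} (ψ : IrrCharacter H) (hext : ∀ n : N, ψ.1 ⟨n, hNH n.2⟩ = θ.1 n)
    (hinv : ∀ g y : G, extendByZero H ψ.1 (g * y * g⁻¹) = extendByZero H ψ.1 y)
    {χ χ' : IrrCharacter G} (hover : classInner (resFun N χ.1) θ.1 ≠ 0)
    (h : SameBlock M χ.1 χ'.1) : classInner (resFun N χ'.1) θ.1 ≠ 0 := fun h0 => by
  have := SameBlock.omega_sub h (isCentralElt_sElt_one ψ.1 hinv) (scoeff_sElt hpM hN ψ 1)
  rw [omega_sElt_one hNH ψ hext hinv hover, omega_sElt_one_eq hNH ψ hext, h0, mul_zero, zero_div,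
    sub_zero] at this
  exact not_memLocalIdeal_one this

include hNH in
/-- Classes moved by `H / N` have vanishing central character over `θ`. -/
theorem centralChar_mem_of_moved [M.IsMaximal] (hpM : (p : AlgInt) ∈ M) (hN : ¬ p ∣ Nat.card N)
    {k : ℕ} (hidx : (N.subgroupOf H).index = p ^ k) {θ : IrrCharacter N} (ψ : IrrCharacter H)
    (hext : ∀ n : N, ψ.1 ⟨n, hNH n.2⟩ = θ.1 n)
    (hinv : ∀ g y : G, extendByZero H ψ.1 (g * y * g⁻¹) = extendByZero H ψ.1 y) {g : G}
    (hmov : ∀ x, IsConj g x → ∃ u ∈ H, (u * x * u⁻¹ : G ⧸ N) ≠ (x : G ⧸ N))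
    {χ : IrrCharacter G} (hover : classInner (resFun N χ.1) θ.1 ≠ 0) :
    MemLocalIdeal M (centralChar χ.1 g) := by
  letI : Field (AlgInt ⧸ M) := Ideal.Quotient.field M
  haveI := Blocks.charP_residue (M := M) hpM
  have hres : IsIrrCharacter N (fun n : N => ψ.1 ⟨n, hNH n.2⟩) := by
    rw [funext hext]; exact θ.2
  have hS := scoeff_sElt hpM hN ψ
  have hec := isCentralElt_sElt_one (N := N) ψ.1 hinv
  have hzc : IsCentralElt (classSum ℂ g * sElt N H ψ.1 1) :=
    IsCentralElt.mul (isCentralElt_classSum g) hec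
  have hzS : SCoeff M (classSum ℂ g * sElt N H ψ.1 1) := SCoeff.mul (scoeff_classSum g) (hS 1)
  obtain ⟨j, hj⟩ := isNilpotent_classSum_mul hNH hidx (fun h => redA M (sElt N H ψ.1 h))
    (fun a b ha hb => by rw [← redA_mul (hS a) (hS b), sElt_mul hNH ψ hres ha hb])
    (fun h n hn => congrArg (redA M) (sElt_coset ψ.1 h hn))
    (fun a h => by
      rw [← red_one (M := M), ← redA_single, ← redA_mul (scoeff_single a memLocalRing_one) (hS h),
        single_mul_sElt ψ.1 hinv, redA_mul (hS _) (scoeff_single a memLocalRing_one)])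
    (fun h y hy => by rw [coeff_redA, coeff_sElt, if_neg hy, red_zero])
    (fun w => ((isCentralElt_redA hec).commute w).eq) (g := g) hmov
  rw [← redA_classSum, ← redA_mul (scoeff_classSum g) (hS 1), ← redA_pow hzS] at hj
  have h1 := memLocalIdeal_omega χ (IsCentralElt.pow hzc j)
    ((redA_eq_zero_iff (SCoeff.pow hzS j)).1 hj)
  rw [omega_pow χ hzc] at h1
  have h2 := MemLocalIdeal.of_pow (memLocalRing_omega χ hzc hzS) h1
  rwa [omega_mul χ (isCentralElt_classSum g), omega_sElt_one hNH ψ hext hinv hover, mul_one,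
    omega_classSum (irr_classFun χ)] at h2

end Cfsg.Agent.BlockLow
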