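import Cfsg.Agent.Lib.Blocks.Core
import Cfsg.Agent.Lib.Char.KernelSum
import Cfsg.Agent.Lib.BlockCount.Involve
import Cfsg.Agent.Lib.TICent.Basic

/-!
# Characters of degree prime to `p` and the classes meeting `C_G(P)`

For a character of degree prime to `p` the central character lives on the classes meeting the
centralizer of a Sylow `p`-subgroup `P`. A block one of whose defect classes has a centralizer
containing `P` has such a character. For `p = 2` a block of full defect stable under a map that
inverts the elements of odd order is principal.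
-/

set_option linter.unusedSectionVars false
set_option linter.style.haveILetI false

namespace Cfsg.Agent.BlockLow

open Cfsg Cfsg.Agent.Blocks
open scoped ComplexConjugate Classical Cfsg.Agent.Blocks

universe u

variable {G : Type u} [Group G] [Fintype G] {p : ℕ} [hp : Fact p.Prime]

theorem exists_integral_coset_sum {χ : G → ℂ} (hχ : IsCharacter G χ) (K : Subgroup G) {g : G}
    (hg : g ∈ Subgroup.normalizer (K : Set G)) :
    ∃ t : ℂ, IsIntegral ℤ t ∧ ∑ u : K, χ (g * u) = (Nat.card K : ℂ) * t := by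
  set H := Subgroup.normalizer (K : Set G) with hH
  obtain ⟨m, hm, -⟩ := Char.IsCharacter.exists_decomp (Char.IsCharacter.restrict hχ H)
  set K' := K.subgroupOf H with hK'
  haveI : K'.Normal := Subgroup.normal_in_normalizer
  have hval : ∀ u : K', χ (g * ((u : H) : G)) = ∑ ψ, (m ψ : ℂ) * ψ.1 (⟨g, hg⟩ * (u : H)) := by
    intro u
    have := congrFun hm (⟨g, hg⟩ * (u : H))
    simpa using this
  refine ⟨∑ ψ : IrrCharacter H, if Char.TrivOn K' ψ.1 then (m ψ : ℂ) * ψ.1 ⟨g, hg⟩ else 0,
    IsIntegral.sum _ fun ψ _ => ?_, ?_⟩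
  · split_ifs
    · refine IsIntegral.mul ?_ (CharInt.isIntegral_char (Char.irr_isCharacter ψ) _)
      exact_mod_cast (isIntegral_algebraMap (R := ℤ) (A := ℂ) (x := (m ψ : ℤ)))
    · exact isIntegral_zero
  · rw [← (Fintype.sum_equiv (Subgroup.subgroupOfEquivOfLe (Subgroup.le_normalizer (H := K))).toEquiv
      (fun u : K' => χ (g * ((u : H) : G))) (fun u : K => χ (g * (u : G))) (fun u => rfl)),
      Finset.sum_congr rfl (fun u _ => hval u), Finset.sum_comm, Finset.mul_sum]
    refine Finset.sum_congr rfl fun ψ _ => ?_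
    split_ifs with h
    · rw [Finset.sum_congr rfl (fun u _ => by rw [Char.apply_mul_of_trivOn h _ u.2]),
        Finset.sum_const, Finset.card_univ, nsmul_eq_mul, ← Nat.card_eq_fintype_card, hK',
        Nat.card_congr (Subgroup.subgroupOfEquivOfLe (Subgroup.le_normalizer (H := K))).toEquiv]
    · rw [← Finset.mul_sum, Char.sum_coset_eq_zero_of_not_trivOn K' ψ h, mul_zero, mul_zero]

variable {M : Ideal AlgInt}

/-- If a defect class of `B` has a centralizer containing a Sylow `p`-subgroup then `B` has a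
character of degree prime to `p`. -/
theorem exists_not_dvd_degree [M.IsMaximal] (hpM : (p : AlgInt) ∈ M) {B : Set (IrrCharacter G)}
    (hB : IsPBlock M B) {g : G} (hcoef : ¬ MemLocalIdeal M (blockCoeff B g)) (P : Sylow p G)
    (hP : (P : Subgroup G) ≤ Subgroup.centralizer ({g} : Set G)) :
    ∃ χ ∈ B, ¬ p ∣ Char.degree χ := by
  by_contra hcon
  push Not at hcon
  have hcomm : ∀ u ∈ (P : Subgroup G), Commute g u := fun u hu =>
    (Subgroup.mem_centralizer_singleton_iff.1 (hP hu)).symm
  have hgN : g⁻¹ ∈ Subgroup.normalizer ((P : Subgroup G) : Set G) := by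
    refine Subgroup.inv_mem _ (Subgroup.centralizer_le_normalizer _ ?_)
    rw [Subgroup.mem_centralizer_iff]
    exact fun u hu => ((hcomm u hu).eq).symm
  have hgreg : IsPRegular p g := by
    by_contra h
    exact hcoef (by rw [blockCoeff_eq_zero hpM hB h]; exact memLocalIdeal_zero)
  choose t ht hts using fun χ : IrrCharacter G =>
    exists_integral_coset_sum (Char.irr_isCharacter χ) (P : Subgroup G) hgN
  have hother : ∀ u : (P : Subgroup G), u ≠ 1 → blockCoeff B (g * (u : G)⁻¹) = 0 := by
    intro u hu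
    refine blockCoeff_eq_zero hpM hB (Blocks.not_isPRegular_iff.2 ?_)
    obtain ⟨k, hk⟩ := IsPGroup.iff_orderOf.1 P.isPGroup' u
    have hk0 : k ≠ 0 := fun h0 => hu (by rwa [h0, pow_zero, orderOf_eq_one_iff] at hk)
    have hku : orderOf ((u : G)⁻¹) = p ^ k := by rw [orderOf_inv, Subgroup.orderOf_coe, hk]
    rw [(Commute.inv_right (hcomm u u.2)).orderOf_mul_eq_mul_orderOf_of_coprime, hku]
    · exact dvd_mul_of_dvd_right (dvd_pow_self p hk0) _
    · rw [hku]
      exact ((hp.out.coprime_iff_not_dvd.2 hgreg).pow_left k).symm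
  have hcg : blockCoeff B g =
      ∑ u : (P : Subgroup G), blockCoeff B (g * (u : G)⁻¹) := by
    rw [Finset.sum_eq_single (1 : (P : Subgroup G)) (fun u _ hu => hother u hu)
      (fun h => absurd (Finset.mem_univ _) h), Subgroup.coe_one, inv_one, mul_one]
  have hsum : blockCoeff B g = ((Nat.card (P : Subgroup G) : ℂ) / (Nat.card G : ℂ)) *
      ∑ χ ∈ Finset.univ.filter (· ∈ B), χ.1 1 * t χ := by
    have hconj : ∀ (χ : IrrCharacter G) (u : (P : Subgroup G)),
        conj (χ.1 (g * (u : G)⁻¹)) = χ.1 (g⁻¹ * u) := by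
      intro χ u
      rw [Char.IsCharacter.conj_apply (Char.irr_isCharacter χ), mul_inv_rev, inv_inv,
        ((hcomm u u.2).inv_left).eq]
    rw [hcg]
    simp only [blockCoeff_eq_sum, hconj, ← Finset.mul_sum]
    rw [Finset.sum_comm, Finset.mul_sum, Finset.mul_sum]
    refine Finset.sum_congr rfl fun χ _ => ?_
    rw [← Finset.mul_sum, hts χ]
    ring
  refine hcoef ?_
  rw [hsum]
  refine MemLocalIdeal.mul_left ?_ (MemLocalIdeal.sum _ fun χ hχ => ?_)
  · refine memLocalRing_natCast_div hpM Nat.card_pos.ne' Nat.card_pos.ne' ?_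
    rw [Sylow.card_eq_multiplicity, hp.out.factorization_pow, Finsupp.single_eq_same]
  · refine MemLocalIdeal.mul_right ?_ (memLocalRing_of_isIntegral (ht χ))
    rw [Char.apply_one_eq_degree]
    exact (memLocalIdeal_natCast_iff hpM _).2 (hcon χ (Finset.mem_filter.1 hχ).2)

/-- A class missing `C_G(P)` has size divisible by `p`. -/
theorem dvd_index_centralizer (P : Sylow p G) {g : G}
    (hg : ∀ x, IsConj g x → x ∉ TICent.cen P) :
    p ∣ (Subgroup.centralizer ({g} : Set G)).index := by
  by_contra hd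
  let S : Sylow p (Subgroup.centralizer ({g} : Set G)) := default
  set S' := ((S : Subgroup (Subgroup.centralizer ({g} : Set G))).map
    (Subgroup.centralizer ({g} : Set G)).subtype) with hS'
  obtain ⟨R, hR⟩ := IsPGroup.exists_le_sylow
    (P := S') (IsPGroup.map S.isPGroup' _)
  have hcard : Nat.card S' = Nat.card (R : Subgroup G) := by
    rw [hS', Subgroup.card_map_of_injective (Subgroup.subtype_injective _),
      Sylow.card_eq_multiplicity, Sylow.card_eq_multiplicity]
    congr 1
    conv_rhs => rw [← (Subgroup.centralizer ({g} : Set G)).card_mul_index]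
    rw [Nat.factorization_mul Nat.card_pos.ne' Subgroup.index_ne_zero_of_finite, Finsupp.add_apply,
      Nat.factorization_eq_zero_of_not_dvd hd, add_zero]
  have hRC : (R : Subgroup G) ≤ Subgroup.centralizer ({g} : Set G) := by
    rw [← Subgroup.eq_of_le_of_card_ge hR hcard.ge]
    exact Subgroup.map_subtype_le _
  obtain ⟨x, hx⟩ := MulAction.exists_smul_eq G R P
  refine hg (x * g * x⁻¹) (isConj_iff.2 ⟨x, rfl⟩) ?_
  show x * g * x⁻¹ ∈ Subgroup.centralizer ((P : Subgroup G) : Set G)
  rw [Subgroup.mem_centralizer_iff]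
  intro u hu
  have hu' : x⁻¹ * u * x ∈ (R : Subgroup G) := by
    rw [← hx] at hu
    rw [Sylow.coe_subgroup_smul, Subgroup.coe_pointwise_smul] at hu
    obtain ⟨w, hw, rfl⟩ := hu
    show x⁻¹ * (x * w * x⁻¹) * x ∈ (R : Subgroup G)
    rw [show x⁻¹ * (x * w * x⁻¹) * x = w by group]
    exact hw
  have := Subgroup.mem_centralizer_singleton_iff.1 (hRC hu')
  calc u * (x * g * x⁻¹) = x * (x⁻¹ * u * x * g) * x⁻¹ := by group
    _ = x * (g * (x⁻¹ * u * x)) * x⁻¹ := by rw [this]
    _ = x * g * x⁻¹ * u := by group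

theorem not_dvd_index_centralizer (P : Sylow p G) {g : G} (hg : g ∈ TICent.cen P) :
    ¬ p ∣ (Subgroup.centralizer ({g} : Set G)).index := fun h =>
  P.not_dvd_index (h.trans (Subgroup.index_dvd_of_le fun u hu => by
    rw [Subgroup.mem_centralizer_singleton_iff]
    exact Subgroup.mem_centralizer_iff.1 hg u hu))

theorem centralChar_mem_of_not_meet [M.IsMaximal] (hpM : (p : AlgInt) ∈ M) (P : Sylow p G)
    {χ : IrrCharacter G} (hχ : ¬ p ∣ Char.degree χ) {g : G}
    (hg : ∀ x, IsConj g x → x ∉ TICent.cen P) : MemLocalIdeal M (centralChar χ.1 g) := by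
  rw [centralChar, mul_div_assoc, div_eq_mul_inv, Char.apply_one_eq_degree]
  exact MemLocalIdeal.mul_right ((memLocalIdeal_natCast_iff hpM _).2 (dvd_index_centralizer P hg))
    (MemLocalRing.mul (memLocalRing_of_isIntegral (CharInt.isIntegral_char (Char.irr_isCharacter χ) g))
      (memLocalRing_inv_natCast hpM hχ))

theorem omega_mem_of_vanish [M.IsMaximal] (hpM : (p : AlgInt) ∈ M) (P : Sylow p G)
    {χ : IrrCharacter G} (hχ : ¬ p ∣ Char.degree χ) {z : MonoidAlgebra ℂ G}
    (hz : IsCentralElt z) (hzS : SCoeff M z) (h : ∀ x ∈ TICent.cen P, MemLocalIdeal M (z.coeff x)) :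
    MemLocalIdeal M (omega χ.1 z) := by
  haveI := Fintype.ofFinite (ConjClasses G)
  rw [omega_eq_sum_classes χ hz]
  refine MemLocalIdeal.sum _ fun C _ => ?_
  by_cases hC : ∀ x, IsConj C.out x → x ∉ TICent.cen P
  · exact MemLocalIdeal.mul_left (hzS _) (centralChar_mem_of_not_meet hpM P hχ hC)
  · push Not at hC
    obtain ⟨x, hx, hxC⟩ := hC
    rw [IsCentralElt.apply_of_isConj hz hx]
    exact MemLocalIdeal.mul_right (h x hxC) (memLocalRing_centralChar χ _)

/-- Modulo `M` an invariant sum over the group reduces to `C_G(P)`. -/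
theorem red_sum_cen [M.IsMaximal] (hpM : (p : AlgInt) ∈ M) (P : Sylow p G) (f : G → ℂ)
    (hf : ∀ g, MemLocalRing M (f g))
    (hinv : ∀ (u : (P : Subgroup G)) (g : G), f ((u : G) * g * (u : G)⁻¹) = f g) :
    red M (∑ g : G, f g) =
      red M (∑ g ∈ Finset.univ.filter (· ∈ TICent.cen P), f g) := by
  haveI := Blocks.charP_residue (M := M) hpM
  rw [red_sum _ fun g _ => hf g, red_sum _ fun g _ => hf g]
  letI act : MulAction (P : Subgroup G) G :=
    MulAction.compHom G ((MulAut.conj (G := G)).comp (P : Subgroup G).subtype)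
  have hsmul : ∀ (u : (P : Subgroup G)) (g : G), u • g = (u : G) * g * (u : G)⁻¹ := fun u g => rfl
  rw [sum_eq_sum_fixedPoints (p := p) (Q := (P : Subgroup G)) P.isPGroup'
    (fun a => by rw [nsmul_eq_mul, CharP.cast_eq_zero, zero_mul]) (fun g => red M (f g))
    (fun u g => by rw [hsmul, hinv])]
  refine Finset.sum_congr ?_ fun _ _ => rfl
  ext g
  simp only [Finset.mem_filter, Finset.mem_univ, true_and, MulAction.mem_fixedPoints]
  constructor
  · intro h
    show g ∈ Subgroup.centralizer ((P : Subgroup G) : Set G)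
    rw [Subgroup.mem_centralizer_iff]
    intro u hu
    have := h ⟨u, hu⟩
    rw [hsmul, mul_inv_eq_iff_eq_mul] at this
    exact this
  · intro h u
    rw [hsmul, mul_inv_eq_iff_eq_mul]
    exact Subgroup.mem_centralizer_iff.1 h u u.2

/-- The elements of order prime to `p` of `C_G(P)` form a subgroup. -/
theorem mul_mem_creg (P : Sylow p G) {x y : G} (hx : x ∈ TICent.cen P) (hy : y ∈ TICent.cen P)
    (hx' : ¬ p ∣ orderOf x) (hy' : ¬ p ∣ orderOf y) : ¬ p ∣ orderOf (x * y) := by
  let S : Sylow p (TICent.cen P) := default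
  have hN : Cfsg.HasNormalPComplement p (TICent.cen P) := by
    refine Transfer.hasNormalPComplement_of_normalizer_le_centralizer S fun c _ => ?_
    rw [Subgroup.mem_centralizer_iff]
    intro a ha
    obtain ⟨k, hk⟩ := IsPGroup.iff_orderOf.1 S.isPGroup' ⟨a, ha⟩
    rw [Subgroup.orderOf_mk] at hk
    have haP : (a : G) ∈ (P : Subgroup G) :=
      TICent.mem_of_pElem a.2 ⟨k, by rw [Subgroup.orderOf_coe, hk]⟩
    exact Subtype.ext (Subgroup.mem_centralizer_iff.1 c.2 _ haP)
  have hiff : ∀ c : TICent.cen P, c ∈ Cfsg.pResidual p (TICent.cen P) ↔ ¬ p ∣ orderOf (c : G) := by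
    intro c
    rw [Transfer.mem_pResidual_iff hN, Nat.coprime_comm, hp.out.coprime_iff_not_dvd,
      Subgroup.orderOf_coe]
  exact (hiff ⟨x * y, Subgroup.mul_mem _ hx hy⟩).1
    (Subgroup.mul_mem _ ((hiff ⟨x, hx⟩).2 hx') ((hiff ⟨y, hy⟩).2 hy'))

section Two

variable [M.IsMaximal]

/-- The common value of the central characters at a class of odd order elements. -/
theorem centralChar_congr_count (h2M : (2 : AlgInt) ∈ M) (P : Sylow 2 G) {χ : IrrCharacter G}
    (hχ : ¬ 2 ∣ Char.degree χ)
    (hsym : ∀ g : G, ¬ 2 ∣ orderOf g →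
      MemLocalIdeal M (centralChar χ.1 g⁻¹ - centralChar χ.1 g))
    {h : G} (hh : ¬ 2 ∣ orderOf h) :
    MemLocalIdeal M (centralChar χ.1 h - (((Finset.univ.filter fun x : G =>
      x ∈ TICent.cen P ∧ ¬ 2 ∣ orderOf x).filter (IsConj h)).card : ℂ)) := by
  haveI : Fact (Nat.Prime 2) := ⟨Nat.prime_two⟩
  have hpM : ((2 : ℕ) : AlgInt) ∈ M := by exact_mod_cast h2M
  haveI := Blocks.charP_residue (M := M) hpM
  set O := Finset.univ.filter fun x : G => x ∈ TICent.cen P ∧ ¬ 2 ∣ orderOf x with hO
  set Zf : G → ℂ := fun g => if ∃ o ∈ O, IsConj o g then 1 else 0 with hZf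
  have hZc : ∀ g a : G, Zf (a * g * a⁻¹) = Zf g := by
    intro g a
    have : IsConj g (a * g * a⁻¹) := isConj_iff.2 ⟨a, rfl⟩
    simp only [hZf, show (∃ o ∈ O, IsConj o (a * g * a⁻¹)) ↔ ∃ o ∈ O, IsConj o g from
      ⟨fun ⟨o, ho, h'⟩ => ⟨o, ho, h'.trans this.symm⟩,
        fun ⟨o, ho, h'⟩ => ⟨o, ho, h'.trans this⟩⟩]
  have hord : ∀ {a b : G}, IsConj a b → orderOf a = orderOf b := by
    intro a b hab
    obtain ⟨c, rfl⟩ := isConj_iff.1 hab
    exact (TICent.orderOf_conj c a).symm
  have hZC : ∀ x ∈ TICent.cen P, Zf x = if x ∈ O then 1 else 0 := by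
    intro x hx
    simp only [hZf]
    congr 1
    simp only [hO, Finset.mem_filter, Finset.mem_univ, true_and, eq_iff_iff]
    exact ⟨fun ⟨o, ho, hc⟩ => ⟨hx, hord hc ▸ ho.2⟩,
      fun hx' => ⟨x, hx', IsConj.refl x⟩⟩
  set Z := ofFun (R := ℂ) Zf with hZ
  have hZcen : IsCentralElt Z := isCentralElt_ofFun hZc
  have hZS : SCoeff M Z := scoeff_ofFun fun g => by
    simp only [hZf]; split_ifs <;> [exact memLocalRing_one; exact memLocalRing_zero]
  have hχint : ∀ g : G, MemLocalRing M (χ.1 g) := fun g =>
    memLocalRing_of_isIntegral (CharInt.isIntegral_char (Char.irr_isCharacter χ) g)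
  -- the character sum over the odd part of the centralizer is a unit
  have hOsum : ¬ MemLocalIdeal M (∑ o ∈ O, χ.1 o) := by
    intro hI
    have h1 : red M (∑ o ∈ O, χ.1 o) = red M (χ.1 1) := by
      rw [red_sum _ fun o _ => hχint o, ← Finset.add_sum_erase _ _ (show (1 : G) ∈ O by simp [hO]),
        add_eq_left]
      refine Finset.sum_involution (fun o _ => o⁻¹) (fun o ho => ?_) (fun o ho hne => ?_)
        (fun o ho => ?_) (fun o _ => inv_inv o)
      · obtain ⟨-, ho'⟩ := Finset.mem_erase.1 ho
        simp only [hO, Finset.mem_filter, Finset.mem_univ, true_and] at ho'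
        have hidx := not_dvd_index_centralizer P ho'.1
        have hs := hsym o ho'.2
        have hci : Subgroup.centralizer ({o⁻¹} : Set G) = Subgroup.centralizer ({o} : Set G) := by
          ext z
          simp only [Subgroup.mem_centralizer_singleton_iff]
          exact ⟨fun e => (Commute.inv_right_iff.1 (e : Commute z o⁻¹)).eq,
            fun e => (Commute.inv_right (e : Commute z o)).eq⟩
        rw [centralChar, centralChar, hci, mul_div_assoc, mul_div_assoc, ← mul_sub,
          ← sub_div] at hs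
        have hn := memLocalRing_natCast (M := M) ((Subgroup.centralizer ({o} : Set G)).index)
        rcases MemLocalIdeal.mem_or_mem hn (MemLocalRing.mul (MemLocalRing.sub (hχint _) (hχint _))
          (show MemLocalRing M (χ.1 1)⁻¹ by
            rw [Char.apply_one_eq_degree]; exact memLocalRing_inv_natCast hpM hχ))
          (by rwa [div_eq_mul_inv] at hs) with hc | hc
        · exact absurd ((memLocalIdeal_natCast_iff hpM _).1 hc) hidx
        · have := MemLocalIdeal.mul_right hc (hχint 1)
          rw [mul_assoc, inv_mul_cancel₀ (irr_one_ne_zero χ), mul_one,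
            ← red_eq_iff (hχint _) (hχint _)] at this
          rw [this, ← two_mul, show (2 : AlgInt ⧸ M) = ((2 : ℕ) : AlgInt ⧸ M) by norm_num,
            CharP.cast_eq_zero, zero_mul]
      · intro he
        obtain ⟨h1, ho'⟩ := Finset.mem_erase.1 ho
        simp only [hO, Finset.mem_filter, Finset.mem_univ, true_and] at ho'
        have : o ^ 2 = 1 := by
          rw [sq]
          conv_lhs => arg 1; rw [← he]
          rw [inv_mul_cancel]
        rcases (Nat.dvd_prime Nat.prime_two).1 (orderOf_dvd_of_pow_eq_one this) with h' | h'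
        · exact h1 (orderOf_eq_one_iff.1 h')
        · exact ho'.2 (by rw [h'])
      · obtain ⟨h1, ho'⟩ := Finset.mem_erase.1 ho
        simp only [hO, Finset.mem_filter, Finset.mem_univ, true_and] at ho'
        refine Finset.mem_erase.2 ⟨fun h' => h1 (inv_eq_one.1 h'), ?_⟩
        simp only [hO, Finset.mem_filter, Finset.mem_univ, true_and, orderOf_inv]
        exact ⟨Subgroup.inv_mem _ ho'.1, ho'.2⟩
    rw [red_eq_zero_of_mem hI] at h1
    have := (red_eq_zero_iff (hχint 1)).1 h1.symm
    rw [Char.apply_one_eq_degree] at this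
    exact hχ ((memLocalIdeal_natCast_iff hpM _).1 this)
  have hωZ : ¬ MemLocalIdeal M (omega χ.1 Z) := by
    intro hI
    have hI' : MemLocalIdeal M (∑ g, Zf g * χ.1 g) := by
      have := MemLocalIdeal.mul_right hI (hχint 1)
      rw [omega, div_mul_cancel₀ _ (irr_one_ne_zero χ), chiL_eq_sum] at this
      simpa [hZ] using this
    have hr := red_sum_cen (M := M) hpM P (fun g => Zf g * χ.1 g)
      (fun g => MemLocalRing.mul (by simpa [hZ] using hZS g) (hχint g))
      (fun u g => by rw [hZc, Char.IsCharacter.isClassFunction (Char.irr_isCharacter χ) g u])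
    rw [red_eq_zero_of_mem hI'] at hr
    refine hOsum ((red_eq_zero_iff (MemLocalRing.sum _ fun o _ => hχint o)).1 ?_)
    rw [hr]
    congr 1
    symm
    rw [Finset.sum_congr rfl fun g hg => by rw [hZC g (Finset.mem_filter.1 hg).2, ite_mul, one_mul,
      zero_mul], ← Finset.sum_filter]
    refine Finset.sum_congr ?_ fun _ _ => rfl
    ext g
    simp only [hO, Finset.mem_filter, Finset.mem_univ, true_and]
    exact ⟨fun hg => hg.2, fun hg => ⟨hg.1, hg⟩⟩
  set c := (O.filter (IsConj h)).card with hc
  set w := classSum ℂ h * Z - (c : ℂ) • Z with hw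
  have hwC : IsCentralElt w := IsCentralElt.sub (IsCentralElt.mul (isCentralElt_classSum h) hZcen)
    (IsCentralElt.smul _ hZcen)
  have hwS : SCoeff M w := SCoeff.sub (SCoeff.mul (scoeff_classSum h) hZS)
    (SCoeff.smul (memLocalRing_natCast c) hZS)
  have hwI : ∀ x ∈ TICent.cen P, MemLocalIdeal M (w.coeff x) := by
    intro x hx
    set F : G → ℂ := fun u => (classSum ℂ h).coeff u * Zf (u⁻¹ * x) with hF
    have hFr : ∀ u, MemLocalRing M (F u) := fun u =>
      MemLocalRing.mul (scoeff_classSum h u) (by simpa [hZ] using hZS (u⁻¹ * x))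
    have hFinv : ∀ (v : (P : Subgroup G)) (u : G), F ((v : G) * u * (v : G)⁻¹) = F u := by
      intro v u
      have hxv : (v : G) * x = x * (v : G) := Subgroup.mem_centralizer_iff.1 hx v v.2
      simp only [hF]
      rw [isCentralElt_classSum h u (v : G),
        show ((v : G) * u * (v : G)⁻¹)⁻¹ * x = (v : G) * (u⁻¹ * x) * (v : G)⁻¹ by
          calc ((v : G) * u * (v : G)⁻¹)⁻¹ * x = (v : G) * u⁻¹ * (v : G)⁻¹ * x := by group
            _ = (v : G) * u⁻¹ * (v : G)⁻¹ * ((v : G) * x * (v : G)⁻¹) := by
              rw [hxv, mul_inv_cancel_right]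
            _ = _ := by group, hZc]
    have hcoef : w.coeff x = ∑ u, F u - (c : ℂ) * Zf x := by
      simp [hw, hF, coeff_mul_eq_sum, hZ]
    rw [hcoef, ← red_eq_iff (MemLocalRing.sum _ fun u _ => hFr u)
      (MemLocalRing.mul (memLocalRing_natCast c) (by simpa [hZ] using hZS x)),
      red_sum_cen hpM P F hFr hFinv]
    congr 1
    calc ∑ u ∈ Finset.univ.filter (· ∈ TICent.cen P), F u
        = ∑ u ∈ Finset.univ.filter (· ∈ TICent.cen P),
            if u ∈ O.filter (IsConj h) then (if x ∈ O then (1 : ℂ) else 0) else 0 := by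
          refine Finset.sum_congr rfl fun u hu => ?_
          have huC : u ∈ TICent.cen P := (Finset.mem_filter.1 hu).2
          simp only [hF, coeff_classSum]
          by_cases hhu : IsConj h u
          · have huO : u ∈ O := by
              simp only [hO, Finset.mem_filter, Finset.mem_univ, true_and]
              exact ⟨huC, hord hhu ▸ hh⟩
            rw [if_pos hhu, one_mul, if_pos (Finset.mem_filter.2 ⟨huO, hhu⟩),
              hZC _ (Subgroup.mul_mem _ (Subgroup.inv_mem _ huC) hx)]
            congr 1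
            simp only [hO, Finset.mem_filter, Finset.mem_univ, true_and] at huO ⊢
            refine propext ⟨fun ⟨_, he⟩ => ⟨hx, ?_⟩,
              fun ⟨_, he⟩ => ⟨Subgroup.mul_mem _ (Subgroup.inv_mem _ huC) hx, ?_⟩⟩
            · have := mul_mem_creg P huC (Subgroup.mul_mem _ (Subgroup.inv_mem _ huC) hx) huO.2 he
              rwa [mul_inv_cancel_left] at this
            · exact mul_mem_creg P (Subgroup.inv_mem _ huC) hx (by rw [orderOf_inv]; exact huO.2) he
          · rw [if_neg hhu, zero_mul, if_neg fun h' => hhu (Finset.mem_filter.1 h').2]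
      _ = (c : ℂ) * Zf x := by
          rw [← Finset.sum_filter, Finset.sum_const, nsmul_eq_mul, hZC x hx]
          congr 2
          rw [hc]
          congr 1
          ext u
          simp only [hO, Finset.mem_filter, Finset.mem_univ, true_and]
          exact ⟨fun hu => hu.2, fun hu => ⟨hu.1.1, hu⟩⟩
  have hω := omega_mem_of_vanish hpM P hχ hwC hwS hwI
  rw [hw, Blocks.omega_sub, omega_mul χ (isCentralElt_classSum h), omega_smul,
    omega_classSum (irr_classFun χ), ← sub_mul] at hω
  exact (MemLocalIdeal.mem_or_mem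
    (MemLocalRing.sub (memLocalRing_centralChar χ h) (memLocalRing_natCast c))
    (memLocalRing_omega χ hZcen hZS) hω).resolve_right hωZ

/-- A character of odd degree whose central character is congruent at `g` and `g⁻¹` for `g` of
odd order lies in the principal 2-block. -/
theorem mem_principal_of_sym (h2M : (2 : AlgInt) ∈ M) {χ : IrrCharacter G}
    (hχ : ¬ 2 ∣ Char.degree χ)
    (hsym : ∀ g : G, ¬ 2 ∣ orderOf g →
      MemLocalIdeal M (centralChar χ.1 g⁻¹ - centralChar χ.1 g)) :
    χ ∈ principalBlock M G := by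
  haveI : Fact (Nat.Prime 2) := ⟨Nat.prime_two⟩
  have hpM : ((2 : ℕ) : AlgInt) ∈ M := by exact_mod_cast h2M
  have ht : ¬ 2 ∣ Char.degree (Char.trivialChar G) := by
    have h1 := Char.apply_one_eq_degree (Char.trivialChar G)
    change (1 : ℂ) = _ at h1
    rw [show Char.degree (Char.trivialChar G) = 1 by exact_mod_cast h1.symm]
    decide
  have hts : ∀ g : G, ¬ 2 ∣ orderOf g → MemLocalIdeal M
      (centralChar (Char.trivialChar G).1 g⁻¹ - centralChar (Char.trivialChar G).1 g) := by
    intro g _
    have hci : Subgroup.centralizer ({g⁻¹} : Set G) = Subgroup.centralizer ({g} : Set G) := by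
      ext z
      simp only [Subgroup.mem_centralizer_singleton_iff]
      exact ⟨fun e => (Commute.inv_right_iff.1 (e : Commute z g⁻¹)).eq,
        fun e => (Commute.inv_right (e : Commute z g)).eq⟩
    simp [centralChar, Char.trivialChar, hci, memLocalIdeal_zero]
  let P : Sylow 2 G := default
  refine sameBlock_of_regular hpM (χ := Char.trivialChar G) fun g hg => ?_
  have h1 := centralChar_congr_count h2M P ht hts hg
  have h2 := centralChar_congr_count h2M P hχ hsym hg
  simpa using MemLocalIdeal.sub h1 h2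

end Two

end Cfsg.Agent.BlockLow
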