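import Cfsg.Agent.Lib.BlockCount.Criterion
import Cfsg.Agent.Lib.BlockLow.FullDefect
import Cfsg.Agent.Lib.Clifford.Glue
import Cfsg.Agent.Lib.Clifford.CyclicQuotient
import Cfsg.Agent.Lib.Char.CliffordGallagher
import Cfsg.Agent.Lib.Char.CliffordCorrespondence
import Cfsg.Agent.Lib.Blocks.PPart
import Cfsg.Agent.Lib.TICent.Norm
import Cfsg.Agent.Lib.Char.PRegular
import Cfsg.Agent.Lib.Char.Ito

/-!
# Principal blocks and normal subgroups `N` with `G = N C_G(P)`

If the index of `N` is prime to `p` and `G = N C_G(P)` for a Sylow `p`-subgroup `P`, every member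
of the principal block of `N` has exactly one extension in the principal block of `G`, and these
are all members of the principal block of `G`.
-/

set_option linter.unusedSectionVars false
set_option linter.style.haveILetI false

namespace Cfsg.Agent.BlockLow

open Cfsg Cfsg.Agent.Char Cfsg.Agent.Blocks
open scoped ComplexConjugate Classical

universe u

variable {G : Type u} [Group G] [Fintype G] {p : ℕ} [hp : Fact p.Prime] {M : Ideal AlgInt}

theorem sylow_le_of_not_dvd_index {N : Subgroup G} [N.Normal] (hidx : ¬ p ∣ N.index)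
    (P : Sylow p G) : (P : Subgroup G) ≤ N := by
  intro u hu
  rw [← QuotientGroup.eq_one_iff]
  obtain ⟨k, hk⟩ := IsPGroup.iff_orderOf.1 P.isPGroup' ⟨u, hu⟩
  rw [Subgroup.orderOf_mk] at hk
  refine orderOf_eq_one_iff.1 (Nat.eq_one_of_dvd_coprimes
    ((hp.out.coprime_iff_not_dvd.2 hidx).pow_left k) ?_ ?_)
  · rw [← hk]; exact orderOf_map_dvd (QuotientGroup.mk' N) u
  · rw [Subgroup.index_eq_card]; exact orderOf_dvd_natCard _

/-- Every coset of `N` has a `p`-regular element centralizing `P`. -/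
theorem exists_regular_rep {N : Subgroup G} [N.Normal] (hidx : ¬ p ∣ N.index) (P : Sylow p G)
    (hsup : N ⊔ TICent.cen P = ⊤) (x : G) :
    ∃ c ∈ TICent.cen P, ¬ p ∣ orderOf c ∧ (c : G ⧸ N) = (x : G ⧸ N) := by
  obtain ⟨n, hn, c₀, hc₀, rfl⟩ := Subgroup.mem_sup_of_normal_left.1 (hsup.ge (Subgroup.mem_top x))
  obtain ⟨u, hu⟩ := Blocks.exists_isPPart (p := p) c₀
  have huz := Blocks.IsPPart.mem_zpowers hu
  obtain ⟨y, hy, hcomm, hk, hyreg⟩ := hu
  have huC : u ∈ TICent.cen P := (Subgroup.zpowers_le.2 hc₀) huz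
  have huP := TICent.mem_of_pElem huC hk
  have hye : y = u⁻¹ * c₀ := by rw [← hy, inv_mul_cancel_left]
  refine ⟨y, hye ▸ Subgroup.mul_mem _ (Subgroup.inv_mem _ huC) hc₀, hyreg, ?_⟩
  rw [← hy]
  simp only [QuotientGroup.mk_mul, (QuotientGroup.eq_one_iff n).2 hn,
    (QuotientGroup.eq_one_iff u).2 (sylow_le_of_not_dvd_index hidx P huP), one_mul]

theorem memLocalIdeal_natCast_mul_iff [M.IsMaximal] (hpM : (p : AlgInt) ∈ M) {a : ℕ}
    (ha : ¬ p ∣ a) {z : ℂ} : MemLocalIdeal M ((a : ℂ) * z) ↔ MemLocalIdeal M z := by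
  refine ⟨fun h => ?_, fun h => MemLocalIdeal.mul_left (memLocalRing_natCast a) h⟩
  have := MemLocalIdeal.mul_left (memLocalRing_inv_natCast hpM ha) h
  rwa [← mul_assoc, inv_mul_cancel₀ (Nat.cast_ne_zero.2 fun h0 => ha (by rw [h0]; exact dvd_zero p)),
    one_mul] at this

theorem centralizer_subgroupOf (H : Subgroup G) (h : H) :
    Subgroup.centralizer ({h} : Set H) =
      (Subgroup.centralizer ({(h : G)} : Set G)).subgroupOf H := by
  ext z
  simp only [Subgroup.mem_subgroupOf, Subgroup.mem_centralizer_singleton_iff]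
  exact ⟨fun e => congrArg Subtype.val e, fun e => Subtype.ext e⟩

/-- The difference of central characters with the trivial character, inside a subgroup. -/
theorem centralChar_one_sub (H : Subgroup G) (f : H → ℂ) (h : H) :
    centralChar (fun _ : H => (1 : ℂ)) h - centralChar f h =
      (((Subgroup.centralizer ({(h : G)} : Set G)).relIndex H : ℕ) : ℂ) * (1 - f h / f 1) := by
  rw [centralChar, centralChar, centralizer_subgroupOf]
  show ((((Subgroup.centralizer ({(h : G)} : Set G)).relIndex H : ℕ) : ℂ) * 1) / 1 - _ = _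
  rw [Subgroup.relIndex]
  ring

/-- Passing between subgroups above `N` does not change congruence of central characters. -/
theorem relIndex_congr [M.IsMaximal] (hpM : (p : AlgInt) ∈ M) {N : Subgroup G} [N.Normal]
    (hidx : ¬ p ∣ N.index) {H' H : Subgroup G} (hN : N ≤ H') (hle : H' ≤ H) (h : G) (u : ℂ) :
    MemLocalIdeal M ((((Subgroup.centralizer ({h} : Set G)).relIndex H : ℕ) : ℂ) * u) ↔
      MemLocalIdeal M ((((Subgroup.centralizer ({h} : Set G)).relIndex H' : ℕ) : ℂ) * u) := by
  set C := Subgroup.centralizer ({h} : Set G) with hC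
  have hb : ¬ p ∣ H'.relIndex H := fun hd => hidx ((hd.trans
    (Subgroup.relIndex_dvd_of_le_left H hN)).trans (Subgroup.relIndex_dvd_index_of_normal N H))
  have ha : ¬ p ∣ H'.relIndex (C ⊓ H) := fun hd => hidx ((hd.trans
    (Subgroup.relIndex_dvd_of_le_left (C ⊓ H) hN)).trans
    (Subgroup.relIndex_dvd_index_of_normal N (C ⊓ H)))
  have h1 := Subgroup.relIndex_mul_relIndex (C ⊓ H') H' H inf_le_right hle
  have h2 := Subgroup.relIndex_mul_relIndex (C ⊓ H') (C ⊓ H) H (inf_le_inf_left C hle) inf_le_right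
  rw [Subgroup.inf_relIndex_right] at h1
  rw [Subgroup.inf_relIndex_right,
    show (C ⊓ H').relIndex (C ⊓ H) = H'.relIndex (C ⊓ H) from by
      rw [← Subgroup.inf_relIndex_right H' (C ⊓ H)]
      congr 1
      rw [← inf_assoc, inf_comm H' C, inf_assoc, inf_eq_left.2 hle], ← h1] at h2
  rw [← memLocalIdeal_natCast_mul_iff hpM ha, ← mul_assoc, ← Nat.cast_mul, h2, Nat.cast_mul,
    mul_comm (((C.relIndex H' : ℕ) : ℂ)), mul_assoc, memLocalIdeal_natCast_mul_iff hpM hb]

theorem mem_principal_comp {K : Type u} [Group K] [Fintype K] (hM : IsPModular p M) (e : K ≃* G)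
    {χ : IrrCharacter G} (hχ : χ ∈ principalBlock M G) {ψ : IrrCharacter K}
    (hψ : ∀ k, ψ.1 k = χ.1 (e k)) : ψ ∈ principalBlock M K := by
  rw [BlockCount.mem_principalBlock_iff hM] at hχ ⊢
  convert hχ using 1
  refine Finset.sum_equiv e.toEquiv (fun k => ?_) (fun k _ => hψ k)
  simp only [Finset.mem_filter, Finset.mem_univ, true_and]
  exact not_congr (iff_of_eq (congrArg (p ∣ ·) (MulEquiv.orderOf_eq e k).symm))

section Main

variable {N : Subgroup G} [N.Normal] [Fintype N]

/-- A member of the principal block over `θ` is the extension of `θ` in the principal block. -/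
theorem eq_of_extension (hM : IsPModular p M) (hidx : ¬ p ∣ N.index) (P : Sylow p G)
    (hsup : N ⊔ TICent.cen P = ⊤) {θ : IrrCharacter N} {χ χ' : IrrCharacter G}
    (hχ : χ ∈ principalBlock M G) (hχ' : χ' ∈ principalBlock M G)
    (hext : ∀ n : N, χ.1 n = θ.1 n) (hover : classInner (resFun N χ'.1) θ.1 ≠ 0) : χ' = χ := by
  haveI := hM.2.1
  haveI := Fintype.ofFinite (G ⧸ N)
  have hres : resFun N χ.1 = θ.1 := funext hext
  obtain ⟨β, hβ⟩ := exists_mulQuotient_eq N χ (hres ▸ θ.2) χ' (hres ▸ hover)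
  have hval : ∀ g, χ'.1 g = χ.1 g * β.1 (g : G ⧸ N) := fun g => (congrFun hβ g).symm
  have hb1 : ¬ p ∣ degree β := fun h => hidx (by
    rw [Subgroup.index_eq_card]
    exact h.trans (degree_dvd_natCard β))
  have hb1' : (β.1 1 : ℂ) ≠ 0 := IsIrrCharacter.apply_one_ne_zero β.2
  have hχ1 : χ.1 1 ≠ 0 := IsIrrCharacter.apply_one_ne_zero χ.2
  have hloc : ∀ q, MemLocalRing M (β.1 q / β.1 1) := fun q => by
    rw [div_eq_mul_inv, apply_one_eq_degree]
    exact MemLocalRing.mul (memLocalRing_of_isIntegral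
      (CharInt.isIntegral_char (irr_isCharacter β) q)) (memLocalRing_inv_natCast hM.2.2 hb1)
  have hq : ∀ q : G ⧸ N, MemLocalIdeal M (β.1 q / β.1 1 - 1) := by
    intro q
    obtain ⟨x, rfl⟩ := QuotientGroup.mk_surjective q
    obtain ⟨c, hc, -, hcx⟩ := exists_regular_rep hidx P hsup x
    rw [← hcx]
    set r := ((Subgroup.centralizer ({c} : Set G)).index : ℂ) with hr
    have hrp := not_dvd_index_centralizer P hc
    have h1 : MemLocalIdeal M (r - r * χ.1 c / χ.1 1) := by
      have := hχ c
      simpa [centralChar, hr] using this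
    have h2 : MemLocalIdeal M (r - r * χ.1 c / χ.1 1 * (β.1 (c : G ⧸ N) / β.1 1)) := by
      have := hχ' c
      simp only [centralChar, hval, QuotientGroup.mk_one, mul_one, div_one] at this
      convert this using 2
      rw [hr]
      field_simp
    have h3 := MemLocalIdeal.sub (MemLocalIdeal.mul_right h1 (hloc (c : G ⧸ N))) h2
    have h4 : MemLocalIdeal M (r * (β.1 (c : G ⧸ N) / β.1 1 - 1)) := by
      convert h3 using 1
      ring
    exact (memLocalIdeal_natCast_mul_iff hM.2.2 hrp).1 h4
  by_cases hβ1 : β = trivialChar (G ⧸ N)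
  · exact Subtype.ext (funext fun g => by rw [hval g, hβ1]; exact mul_one _)
  exfalso
  have h := MemLocalIdeal.sum (M := M) Finset.univ fun q _ => hq q
  rw [Finset.sum_sub_distrib, ← Finset.sum_div, sum_apply_eq_zero hβ1, zero_div, zero_sub,
    Finset.sum_const, Finset.card_univ, nsmul_eq_mul, mul_one, ← Nat.card_eq_fintype_card,
    ← Subgroup.index_eq_card] at h
  have := MemLocalIdeal.neg h
  rw [neg_neg] at this
  exact hidx ((memLocalIdeal_natCast_iff hM.2.2 _).1 this)

/-- The step of prime index. -/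
theorem exists_extension_prime (hM : IsPModular p M) (hidx : ¬ p ∣ N.index) (P : Sylow p G)
    (hsup : N ⊔ TICent.cen P = ⊤) (hq : N.index.Prime) {θ : IrrCharacter N}
    (hθ : θ ∈ principalBlock M N) :
    ∃ χ : IrrCharacter G, χ ∈ principalBlock M G ∧ ∀ n : N, χ.1 n = θ.1 n := by
  haveI := hM.2.1
  obtain ⟨χ, hχB, hχ⟩ := BlockCount.exists_principalBlock_over N hM hθ
  have hover : classInner (resFun N χ.1) θ.1 ≠ 0 := by
    rw [classInner_indFun N _ (IsCharacter.isClassFunction (irr_isCharacter χ))] at hχ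
    intro h0
    refine hχ ?_
    rw [show resFun N χ.1 = fun n : N => χ.1 n from rfl] at h0
    rw [← conj_classInner, h0, map_zero]
  have hinv : ∀ g : G, conjFun N θ.1 g = θ.1 := by
    intro g
    by_contra hne
    have hI : inertia N θ.1 = N := by
      have hdvd : (inertia N θ.1).index ∣ N.index := Subgroup.index_dvd_of_le (irr_le_inertia N θ)
      rcases (Nat.dvd_prime hq).1 hdvd with h | h
      · refine absurd ?_ hne
        rw [Subgroup.index_eq_one] at h
        exact (mem_inertia N).1 (h ▸ Subgroup.mem_top g)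
      · refine le_antisymm (Subgroup.relIndex_eq_one.1 ?_) (irr_le_inertia N θ)
        have h2 := Subgroup.relIndex_mul_index (irr_le_inertia N θ)
        rw [h] at h2
        exact Nat.eq_of_mul_eq_mul_right hq.pos (h2.trans (one_mul _).symm)
    -- `χ` vanishes off `N`
    have horb : (orbitFinset N θ).card = N.index := by rw [← index_inertia, hI]
    obtain ⟨m, hm⟩ := IsCharacter.exists_nat_classInner
      (IsCharacter.restrict (irr_isCharacter χ) N) (irr_isCharacter θ)
    have hm' : classInner (resFun N χ.1) θ.1 = (m : ℂ) := hm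
    have hm0 : m ≠ 0 := fun h => hover (by rw [hm', h, Nat.cast_zero])
    have hNsum : classInner (resFun N χ.1) (resFun N χ.1) = ((m * m * N.index : ℕ) : ℂ) := by
      conv_lhs => arg 2; rw [resFun_eq_smul_orbitSum N χ θ hover]
      rw [classInner_smul_right, hm', orbitSum, classInner_sum_right,
        Finset.sum_congr rfl (g := fun _ => (m : ℂ)) fun η hη => by
          obtain ⟨a, rfl⟩ := (mem_orbitFinset N).1 hη
          rw [conjChar_coe, classInner_resFun_conjFun N
            (IsCharacter.isClassFunction (irr_isCharacter χ)), hm'],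
        Finset.sum_const, horb, nsmul_eq_mul, map_natCast]
      push_cast
      ring
    have hN' : ∑ n : N, Complex.normSq (χ.1 n) = (Nat.card N * (m * m * N.index) : ℕ) := by
      apply Complex.ofReal_injective
      rw [show (fun n : N => Complex.normSq (χ.1 n)) =
        fun n => Complex.normSq (resFun N χ.1 n) from rfl, TICent.sum_normSq_of_classInner, hNsum]
      push_cast
      ring
    have hG' : ∑ x : G, Complex.normSq (χ.1 x) = (Nat.card G : ℕ) := by
      apply Complex.ofReal_injective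
      rw [TICent.sum_normSq_of_classInner, classInner_irr_self χ.2, mul_one, Complex.ofReal_natCast]
    have hle : (Nat.card G : ℕ) ≤ Nat.card N * (m * m * N.index) := by
      rw [← N.card_mul_index, mul_comm (m * m), ← mul_assoc]
      exact Nat.le_mul_of_pos_right _ (Nat.mul_pos (Nat.pos_of_ne_zero hm0) (Nat.pos_of_ne_zero hm0))
    have hsplit := Fintype.sum_subtype_add_sum_subtype (fun x : G => x ∈ N)
      (fun x => Complex.normSq (χ.1 x))
    have hrest : ∑ x : {x : G // x ∉ N}, Complex.normSq (χ.1 x) ≤ 0 := by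
      rw [hG'] at hsplit
      have h1 : ((Nat.card N * (m * m * N.index) : ℕ) : ℝ) +
          ∑ x : {x : G // x ∉ N}, Complex.normSq (χ.1 x) = (Nat.card G : ℕ) := by
        rw [← hsplit, ← hN']
        congr 1
        exact Finset.sum_congr (Finset.ext fun _ => by simp) fun _ _ => rfl
      have : ((Nat.card G : ℕ) : ℝ) ≤ ((Nat.card N * (m * m * N.index) : ℕ) : ℝ) := Nat.cast_le.2 hle
      linarith
    have hvan : ∀ x : G, x ∉ N → χ.1 x = 0 := fun x hx => Complex.normSq_eq_zero.1
      ((Finset.sum_eq_zero_iff_of_nonneg fun y _ => Complex.normSq_nonneg _).1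
        (le_antisymm hrest (Finset.sum_nonneg fun y _ => Complex.normSq_nonneg _))
        ⟨x, hx⟩ (Finset.mem_univ _))
    -- a regular element of `C(P)` outside `N`
    obtain ⟨x, hx⟩ : ∃ x : G, x ∉ N := by
      by_contra! h
      exact hne ((mem_inertia N).1 (irr_le_inertia N θ (h g)))
    obtain ⟨c, hc, -, hcx⟩ := exists_regular_rep hidx P hsup x
    have hcN : c ∉ N := fun h => hx (by
      rw [← QuotientGroup.eq_one_iff, ← hcx, QuotientGroup.eq_one_iff]; exact h)
    have := hχB c
    simp only [centralChar, hvan c hcN, mul_one, div_one, mul_zero, zero_div, sub_zero] at this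
    exact not_dvd_index_centralizer P hc ((memLocalIdeal_natCast_iff hM.2.2 _).1 this)
  obtain ⟨n, σ, hσ, hσθ⟩ := θ.2
  haveI := hσ
  haveI : IsCyclic (G ⧸ N) := by
    haveI := Fact.mk hq
    exact isCyclic_of_prime_card (p := N.index) (Subgroup.index_eq_card N).symm
  obtain ⟨χ₀f, hχ₀, hext⟩ := Clifford.exists_irrCharacter_extension σ
    (Clifford.exists_extension_of_cyclic σ fun g m => by rw [hσθ]; exact congrFun (hinv g) m)
  let χ₀ : IrrCharacter G := ⟨χ₀f, hχ₀⟩
  have hres : resFun N χ₀.1 = θ.1 := funext fun m => by rw [← hσθ]; exact hext m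
  haveI := Fintype.ofFinite (G ⧸ N)
  obtain ⟨β, hβ⟩ := exists_mulQuotient_eq N χ₀ (hres ▸ θ.2) χ (hres ▸ hover)
  have hβ1 : β.1 1 = 1 := by
    rw [apply_one_eq_degree]
    have h1 : degree β = 1 := by
      have hcomm : ∀ a ∈ (⊤ : Subgroup (G ⧸ N)), ∀ b ∈ (⊤ : Subgroup (G ⧸ N)), a * b = b * a :=
        fun a _ b _ => (IsCyclic.isMulCommutative (α := G ⧸ N)).is_comm.comm a b
      have := degree_dvd_index_of_comm ⊤ hcomm β
      rwa [Subgroup.index_top, Nat.dvd_one] at this
    rw [h1, Nat.cast_one]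
  refine ⟨χ, hχB, fun m => ?_⟩
  rw [← congrFun hres m, ← congrFun hβ (m : G)]
  simp [(QuotientGroup.eq_one_iff (m : G)).2 m.2, hβ1]

/-- Every member of the principal block of `N` extends into the principal block of `G`. -/
theorem exists_extension (hM : IsPModular p M) (hidx : ¬ p ∣ N.index) (P : Sylow p G)
    (hsup : N ⊔ TICent.cen P = ⊤) {θ : IrrCharacter N} (hθ : θ ∈ principalBlock M N) :
    ∃ χ : IrrCharacter G, χ ∈ principalBlock M G ∧ ∀ n : N, χ.1 n = θ.1 n := by
  haveI := hM.2.1
  have hPN := sylow_le_of_not_dvd_index hidx P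
  have hsup' : ∀ (K H : Subgroup G) (hKH : K ≤ H) (hNK : N ≤ K),
      K.subgroupOf H ⊔ TICent.cen (P.subtype (hPN.trans (hNK.trans hKH))) = ⊤ := by
    intro K H hKH hNK
    rw [eq_top_iff]
    rintro ⟨x, hx⟩ -
    obtain ⟨m, hm, c, hc, rfl⟩ := Subgroup.mem_sup_of_normal_left.1 (hsup.ge (Subgroup.mem_top x))
    have hmH : m ∈ H := hKH (hNK hm)
    have hcH : c ∈ H := by simpa using H.mul_mem (H.inv_mem hmH) hx
    rw [show (⟨m * c, hx⟩ : H) = ⟨m, hmH⟩ * ⟨c, hcH⟩ from Subtype.ext rfl]
    refine Subgroup.mul_mem_sup (Subgroup.mem_subgroupOf.2 (hNK hm)) ?_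
    show _ ∈ Subgroup.centralizer _
    rw [Subgroup.mem_centralizer_iff]
    intro a ha
    exact Subtype.ext (Subgroup.mem_centralizer_iff.1 hc (a : G) ha)
  have hidx' : ∀ (K H : Subgroup G), N ≤ K → ¬ p ∣ (K.subgroupOf H).index := fun K H hNK hd =>
    hidx ((hd.trans (Subgroup.relIndex_dvd_of_le_left H hNK)).trans
      (Subgroup.relIndex_dvd_index_of_normal N H))
  let C : ∀ H : Subgroup G, (H → ℂ) → Prop := fun H f => SameBlock M (fun _ : H => (1 : ℂ)) f
  have hC : Clifford.Canonical θ C := by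
    refine ⟨hθ, ?_, ?_, ?_, ?_⟩
    · intro H hNH f f' hf hf'
      haveI : (N.subgroupOf H).Normal := Subgroup.normal_subgroupOf
      let θ' := toSubgroupOf N hNH θ
      have hext : ∀ x : N.subgroupOf H, f x = θ'.1 x := fun x => hf.2.1 _ x.2
      have hext' : resFun (N.subgroupOf H) f' = θ'.1 := funext fun x => hf'.2.1 _ x.2
      exact (congrArg Subtype.val (eq_of_extension (N := N.subgroupOf H) hM (hidx' N H le_rfl) _
        (hsup' N H hNH le_rfl) (θ := θ') (χ := ⟨f, hf.1⟩) (χ' := ⟨f', hf'.1⟩) hf.2.2 hf'.2.2 hext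
        (by rw [hext', classInner_irr_self θ'.2]; exact one_ne_zero))).symm
    · intro H' H hle hNH' f hf
      have hirr : IsIrrCharacter H' (fun x => f (Subgroup.inclusion hle x)) := by
        refine Clifford.isIrrCharacter_of_restrict (Subgroup.inclusion hNH')
          (IsCharacter.comp (IsIrrCharacter.isCharacter hf.1) (Subgroup.inclusion hle)) ?_
        convert θ.2 using 1
        exact funext fun n => hf.2.1 _ n.2
      refine sameBlock_of_regular (p := p) hM.2.2 (χ := trivialChar H') (ψ := ⟨_, hirr⟩)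
        fun g _ => ?_
      have h := hf.2.2 (Subgroup.inclusion hle g)
      rw [centralChar_one_sub] at h
      show MemLocalIdeal M (centralChar (fun _ : H' => (1 : ℂ)) g - _)
      rw [centralChar_one_sub]
      exact (relIndex_congr hM.2.2 hidx hNH' hle _ _).1 h
    · intro a H' H h hNH' f hf
      let e : H' ≃* H :=
        { toFun := fun x => ⟨a * x * a⁻¹, (h x).1 x.2⟩
          invFun := fun y => ⟨a⁻¹ * y * a, (h _).2 (by
            rw [show a * (a⁻¹ * (y : G) * a) * a⁻¹ = y by group]; exact y.2)⟩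
          left_inv := fun x => Subtype.ext (by simp [mul_assoc])
          right_inv := fun y => Subtype.ext (by simp [mul_assoc])
          map_mul' := fun x y => Subtype.ext (by simp [mul_assoc]) }
      exact mem_principal_comp hM e (χ := ⟨f, hf.1⟩) hf.2.2
        (ψ := ⟨fun x => f (e x), IsIrrCharacter.comp_surjective hf.1 e.toMonoidHom e.surjective⟩)
        fun x => rfl
    · intro K H hNK hKH hn hq f hf
      haveI := hn
      let eK := Subgroup.subgroupOfEquivOfLe hKH
      let θ' : IrrCharacter (K.subgroupOf H) :=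
        ⟨fun x => f (eK x), IsIrrCharacter.comp_surjective hf.1 eK.toMonoidHom eK.surjective⟩
      have hθ' : θ' ∈ principalBlock M (K.subgroupOf H) :=
        mem_principal_comp hM eK (χ := ⟨f, hf.1⟩) hf.2.2 fun x => rfl
      obtain ⟨χ, hχB, hχ⟩ := exists_extension_prime (N := K.subgroupOf H) hM (hidx' K H hNK) _
        (hsup' K H hKH hNK) hq hθ'
      exact ⟨χ.1, χ.2, hχB, fun x hx => hχ ⟨x, hx⟩⟩
  obtain ⟨χ, hext, hloc⟩ := Clifford.exists_glued hC
  refine ⟨χ, sameBlock_of_regular (p := p) hM.2.2 (χ := trivialChar G) (ψ := χ) fun g _ => ?_, hext⟩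
  have hg : g ∈ N ⊔ Subgroup.zpowers g := Subgroup.mem_sup_right (Subgroup.mem_zpowers g)
  have h := hloc g ⟨g, hg⟩
  rw [centralChar_one_sub] at h
  have h' := (relIndex_congr hM.2.2 hidx le_sup_left le_top g _).2 h
  rw [Subgroup.relIndex_top_right] at h'
  show MemLocalIdeal M (centralChar (fun _ : G => (1 : ℂ)) g - _)
  convert h' using 1
  simp only [centralChar, OneMemClass.coe_one]
  ring

end Main

end Cfsg.Agent.BlockLow
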