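import Cfsg.Agent.Lib.Blocks.Core
import Cfsg.Agent.Lib.BlockCount.PrincipalSum
import Cfsg.Agent.Lib.BlockCount.Involve

/-!
# Characters of degree almost divisible by the full `p`-part

If `p ^ e ∣ χ 1` with `e ≥ a - 1`, where `p ^ a` is the `p`-part of the group order, then every
character in the block of `χ` has degree divisible by `p ^ e`.
-/

set_option linter.unusedSectionVars false
set_option linter.style.haveILetI false

namespace Cfsg.Agent.BlockLow

open Cfsg Cfsg.Agent.Blocks
open scoped ComplexConjugate Classical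

universe u

variable {G : Type u} [Group G] [Fintype G] {p : ℕ} [hp : Fact p.Prime] {M : Ideal AlgInt}

theorem centralizer_inv (g : G) :
    Subgroup.centralizer ({g⁻¹} : Set G) = Subgroup.centralizer ({g} : Set G) := by
  ext x
  simp only [Subgroup.mem_centralizer_singleton_iff]
  exact ⟨fun h => Commute.eq (Commute.inv_right_iff.1 h), fun h => Commute.inv_right (h : Commute x g)⟩

/-- `∑_{g regular} φ g * conj (χ g)` divided by `χ 1`, written with central characters. -/
theorem pregSum_div_eq {φ : G → ℂ} (hφ : IsCharacter G φ) (χ : IrrCharacter G) :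
    BlockCount.pregSum p (φ * fun g => conj (χ.1 g)) / χ.1 1 =
      ∑ C ∈ (Finset.univ.filter (fun g : G => ¬ p ∣ orderOf g)).image ConjClasses.mk,
        φ (Quotient.out C) * centralChar χ.1 (Quotient.out C)⁻¹ := by
  rw [BlockCount.pregSum_eq_sum_classes p (Char.IsCharacter.isClassFunction
    (Char.IsCharacter.mul hφ (Char.IsCharacter.conj (Char.irr_isCharacter χ)))), Finset.sum_div]
  refine Finset.sum_congr rfl fun C _ => ?_
  rw [centralChar, centralizer_inv, Pi.mul_apply,
    Char.IsCharacter.conj_apply (Char.irr_isCharacter χ)]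
  ring

/-- Within a block `pregSum (φ * conj χ) / χ 1` is constant modulo the local ideal. -/
theorem pregSum_congr [M.IsMaximal] {φ : G → ℂ} (hφ : IsCharacter G φ) {χ ψ : IrrCharacter G}
    (h : SameBlock M χ.1 ψ.1) :
    MemLocalIdeal M (BlockCount.pregSum p (φ * fun g => conj (χ.1 g)) / χ.1 1 -
      BlockCount.pregSum p (φ * fun g => conj (ψ.1 g)) / ψ.1 1) := by
  rw [pregSum_div_eq hφ χ, pregSum_div_eq hφ ψ, ← Finset.sum_sub_distrib]
  refine MemLocalIdeal.sum _ fun C _ => ?_
  rw [← mul_sub]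
  exact MemLocalIdeal.mul_left (memLocalRing_of_isIntegral (CharInt.isIntegral_char hφ _)) (h _)

theorem isIntegral_pregSum_div {φ : G → ℂ} (hφ : IsCharacter G φ) (χ : IrrCharacter G) :
    IsIntegral ℤ (BlockCount.pregSum p (φ * fun g => conj (χ.1 g)) / χ.1 1) := by
  rw [pregSum_div_eq hφ χ]
  exact IsIntegral.sum _ fun C _ => IsIntegral.mul (CharInt.isIntegral_char hφ _)
    (isIntegral_centralChar χ _)

/-- A rational quotient of natural numbers that is an algebraic integer. -/
theorem dvd_of_isIntegral_div {a : ℤ} {b : ℕ} (hb : b ≠ 0) (h : IsIntegral ℤ ((a : ℂ) / b)) :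
    (b : ℤ) ∣ a := by
  have hq : IsIntegral ℤ ((a : ℚ) / b) := by
    refine (isIntegral_algebraMap_iff (algebraMap ℚ ℂ).injective).1 ?_
    simpa using h
  obtain ⟨k, hk⟩ := IsIntegrallyClosed.isIntegral_iff.1 hq
  rw [eq_intCast, eq_div_iff (Nat.cast_ne_zero.2 hb)] at hk
  exact ⟨k, by rw [mul_comm]; exact_mod_cast hk.symm⟩

theorem regSum_self_bounds (hp' : p.Prime) (χ : IrrCharacter G) :
    ∃ r : ℝ, BlockCount.pregSum p (χ.1 * fun g => conj (χ.1 g)) = (r : ℂ) ∧ 0 < r ∧
      r ≤ Nat.card G ∧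
      ((r = Nat.card G) → ∀ g : G, p ∣ orderOf g → χ.1 g = 0) := by
  have htot : ∑ g : G, Complex.normSq (χ.1 g) = (Nat.card G : ℝ) := by
    have h1 := Char.classInner_irr_self χ.2
    rw [classInner, inv_mul_eq_iff_eq_mul₀ Char.card_ne_zero, mul_one] at h1
    apply Complex.ofReal_injective
    push_cast
    rw [← h1]
    exact Finset.sum_congr rfl fun g _ => (Complex.mul_conj _).symm
  refine ⟨∑ g ∈ Finset.univ.filter (fun g : G => ¬ p ∣ orderOf g), Complex.normSq (χ.1 g), ?_, ?_, ?_,
    fun h g hg => ?_⟩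
  · rw [BlockCount.pregSum]
    push_cast
    exact Finset.sum_congr rfl fun g _ => Complex.mul_conj _
  · refine Finset.sum_pos' (fun g _ => Complex.normSq_nonneg _) ⟨1, ?_, ?_⟩
    · simp [hp'.ne_one]
    · exact Complex.normSq_pos.2 (Char.IsIrrCharacter.apply_one_ne_zero χ.2)
  · rw [← htot]
    exact Finset.sum_le_univ_sum_of_nonneg fun g => Complex.normSq_nonneg _
  · rw [← htot, ← Finset.sum_filter_add_sum_filter_not Finset.univ (fun g : G => ¬ p ∣ orderOf g),
      left_eq_add] at h
    exact Complex.normSq_eq_zero.1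
      ((Finset.sum_eq_zero_iff_of_nonneg fun g _ => Complex.normSq_nonneg _).1 h g
        (by simp [hg]))

theorem pow_dvd_of_vanish {χ : IrrCharacter G} (h : ∀ g : G, p ∣ orderOf g → χ.1 g = 0) :
    p ^ (Nat.card G).factorization p ∣ Char.degree χ := by
  let P : Sylow p G := default
  obtain ⟨n, hn⟩ := Char.IsCharacter.exists_nat_classInner
    (Char.IsCharacter.restrict (Char.irr_isCharacter χ) (P : Subgroup G)) Char.isCharacter_one
  rw [classInner, Finset.sum_eq_single (1 : (P : Subgroup G)), inv_mul_eq_iff_eq_mul₀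
    Char.card_ne_zero] at hn
  · rw [← Sylow.card_eq_multiplicity P]
    refine ⟨n, ?_⟩
    simp only [Subgroup.coe_one, map_one, mul_one, Char.apply_one_eq_degree] at hn
    exact_mod_cast hn
  · intro u _ hu
    rw [map_one, mul_one]
    refine h _ ?_
    obtain ⟨k, hk⟩ := IsPGroup.iff_orderOf.1 P.isPGroup' u
    rw [Subgroup.orderOf_coe, hk]
    refine dvd_pow_self p fun hk0 => hu ?_
    rw [hk0, pow_zero, orderOf_eq_one_iff] at hk
    exact hk
  · exact fun hn => absurd (Finset.mem_univ _) hn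

theorem pow_dvd_of_sameBlock (hM : IsPModular p M) {χ ψ : IrrCharacter G} {e : ℕ}
    (he : (Nat.card G).factorization p ≤ e + 1) (he' : e ≤ (Nat.card G).factorization p)
    (hdiv : p ^ e ∣ Char.degree χ) (h : SameBlock M χ.1 ψ.1) : p ^ e ∣ Char.degree ψ := by
  obtain ⟨hpp, hmax, hpM⟩ := hM
  haveI := hmax
  set a := (Nat.card G).factorization p with ha
  -- it suffices to treat the exact exponent of `χ 1`
  have hd0 : Char.degree χ ≠ 0 := (Char.degree_pos χ).ne'
  have hdG : Char.degree χ ∣ Nat.card G := by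
    have := BlockCount.charDegree_dvd_card χ
    rwa [BlockCount.charDegree_eq_degree] at this
  set v := (Char.degree χ).factorization p with hv
  have hev : e ≤ v := (hpp.pow_dvd_iff_le_factorization hd0).1 hdiv
  have hva : v ≤ a := (Nat.factorization_le_iff_dvd hd0 Nat.card_pos.ne').2 hdG p
  suffices p ^ v ∣ Char.degree ψ from (pow_dvd_pow p hev).trans this
  set g' := Nat.card G / p ^ a with hg'
  have hg'p : ¬ p ∣ g' := Nat.not_dvd_ordCompl hpp Nat.card_pos.ne'
  have hg'0 : g' ≠ 0 := (Nat.ordCompl_pos p Nat.card_pos.ne').ne'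
  have hGg : Nat.card G = p ^ a * g' := (Nat.ordProj_mul_ordCompl_eq_self _ p).symm
  have hconj : ∀ χ' : IrrCharacter G, IsCharacter G (χ.1 * fun g => conj (χ'.1 g)) := fun χ' =>
    Char.IsCharacter.mul (Char.irr_isCharacter χ) (Char.IsCharacter.conj (Char.irr_isCharacter χ'))
  obtain ⟨z, hz⟩ := BlockCount.pregSum_dvd p (BlockCount.isRepChar_of_isCharacter (hconj χ))
  obtain ⟨w, hw⟩ := BlockCount.pregSum_dvd p (BlockCount.isRepChar_of_isCharacter (hconj ψ))
  rw [← ha, ← hg'] at hz hw
  have hdvdi : ∀ {t : ℤ} {η : IrrCharacter G},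
      BlockCount.pregSum p (χ.1 * fun g => conj (η.1 g)) = (g' : ℂ) * (t : ℂ) →
      (Char.degree η : ℤ) ∣ (g' : ℤ) * t ∧
        (p : ℤ) ^ (Char.degree χ).factorization p ∣ t := by
    intro t η ht
    have hη := isIntegral_pregSum_div (p := p) (Char.irr_isCharacter χ) η
    have hη' := isIntegral_pregSum_div (p := p) (Char.irr_isCharacter η) χ
    have hsym : BlockCount.pregSum p (η.1 * fun g => conj (χ.1 g)) =
        (g' : ℂ) * (t : ℂ) := by
      have hc := congrArg (starRingEnd ℂ) ht
      simp only [BlockCount.pregSum, Pi.mul_apply, map_sum, map_mul, Complex.conj_conj,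
        map_natCast, map_intCast] at hc
      rw [← hc]
      exact Finset.sum_congr rfl fun g _ => mul_comm _ _
    rw [ht, Char.apply_one_eq_degree] at hη
    rw [hsym, Char.apply_one_eq_degree] at hη'
    refine ⟨dvd_of_isIntegral_div (Char.degree_pos η).ne' (a := (g' : ℤ) * t)
      (by push_cast; exact hη), ?_⟩
    have h2 := dvd_of_isIntegral_div hd0 (a := (g' : ℤ) * t) (by push_cast; exact hη')
    refine Int.dvd_of_dvd_mul_right_of_gcd_one ?_ ?_ (b := (g' : ℤ))
    · exact dvd_trans (by exact_mod_cast Nat.ordProj_dvd (Char.degree χ) p) h2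
    · rw [← Nat.cast_pow, Int.gcd_natCast_natCast]
      exact (Nat.Coprime.pow_left _ ((hpp.coprime_iff_not_dvd).2 hg'p))
  obtain ⟨r, hr, hr0, hrle, hrvan⟩ := regSum_self_bounds (p := p) hpp χ
  obtain ⟨u, rfl⟩ := (hdvdi hz).2
  obtain ⟨u', rfl⟩ := (hdvdi hw).2
  -- `u` is prime to `p`
  have hrz : r = (g' : ℝ) * (((p : ℤ) ^ v * u : ℤ) : ℝ) := by
    apply Complex.ofReal_injective
    rw [← hr, hz]
    push_cast
    rfl
  have hpv : (0 : ℤ) < (p : ℤ) ^ v := pow_pos (by exact_mod_cast hpp.pos) v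
  have hu0 : 0 < u := by
    by_contra hneg
    push Not at hneg
    have h1 : (((p : ℤ) ^ v * u : ℤ) : ℝ) ≤ 0 := by
      exact_mod_cast mul_nonpos_of_nonneg_of_nonpos hpv.le hneg
    nlinarith [(Nat.cast_nonneg g' : (0 : ℝ) ≤ g')]
  have hule : (p : ℤ) ^ v * u ≤ (p : ℤ) ^ a := by
    have h1 : (g' : ℝ) * (((p : ℤ) ^ v * u : ℤ) : ℝ) ≤ (g' : ℝ) * (((p : ℤ) ^ a : ℤ) : ℝ) := by
      rw [← hrz]
      refine hrle.trans (le_of_eq ?_)
      rw [hGg]
      push_cast
      ring
    have := le_of_mul_le_mul_left h1 (by exact_mod_cast Nat.pos_of_ne_zero hg'0)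
    exact_mod_cast this
  have hu : ¬ (p : ℤ) ∣ u := by
    intro hdu
    obtain ⟨k, rfl⟩ := hdu
    have hk : 0 < k := pos_of_mul_pos_right hu0 (by positivity)
    have h1 : (p : ℤ) ^ (v + 1) * k ≤ (p : ℤ) ^ a := by rw [pow_succ, mul_assoc]; exact hule
    have h2 : v + 1 ≤ a := by
      by_contra hcon
      have : (p : ℤ) ^ a < (p : ℤ) ^ (v + 1) :=
        pow_lt_pow_right₀ (by exact_mod_cast hpp.one_lt) (by omega)
      have hpos : (0 : ℤ) ≤ (p : ℤ) ^ (v + 1) := by positivity
      nlinarith [le_mul_of_one_le_right hpos (show (1 : ℤ) ≤ k by omega)]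
    have hva' : v + 1 = a := by omega
    rw [hva'] at h1
    have hk1 : k = 1 := by
      have : (0 : ℤ) < (p : ℤ) ^ a := pow_pos (by exact_mod_cast hpp.pos) a
      nlinarith
    have hvan := hrvan (by
      rw [hrz, hGg, hk1, mul_one, ← pow_succ, hva']
      push_cast
      ring)
    have := (hpp.pow_dvd_iff_le_factorization hd0).1 (pow_dvd_of_vanish hvan)
    rw [← ha, ← hv] at this
    omega
  by_contra hnd
  set v' := (Char.degree ψ).factorization p with hv'
  have hlt : v' < v := by
    by_contra hge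
    exact hnd ((hpp.pow_dvd_iff_le_factorization (Char.degree_pos ψ).ne').2 (by omega))
  -- compare the two quotients
  have hcong := pregSum_congr (p := p) (Char.irr_isCharacter χ) h
  rw [hz, hw, Char.apply_one_eq_degree, Char.apply_one_eq_degree] at hcong
  have hsplit : ∀ (η : IrrCharacter G) (k : ℤ) (i : ℕ),
      (g' : ℂ) * (((p : ℤ) ^ ((Char.degree η).factorization p + i) * k : ℤ) : ℂ) /
          (Char.degree η : ℂ) =
        ((p : ℂ) ^ i * (k : ℂ)) *
          ((g' : ℂ) * ((Char.degree η / p ^ (Char.degree η).factorization p : ℕ) : ℂ)⁻¹) := by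
    intro η k i
    conv_lhs => arg 2; rw [← Nat.ordProj_mul_ordCompl_eq_self (Char.degree η) p]
    have h1 : ((Char.degree η / p ^ (Char.degree η).factorization p : ℕ) : ℂ) ≠ 0 :=
      Nat.cast_ne_zero.2 (Nat.ordCompl_pos p (Char.degree_pos η).ne').ne'
    have h2 : ((p : ℂ)) ≠ 0 := Nat.cast_ne_zero.2 hpp.ne_zero
    push_cast
    field_simp
    ring
  have hval : ∀ η : IrrCharacter G,
      MemLocalRing M ((g' : ℂ) *
        ((Char.degree η / p ^ (Char.degree η).factorization p : ℕ) : ℂ)⁻¹) := fun η =>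
    MemLocalRing.mul (memLocalRing_natCast _)
      (memLocalRing_inv_natCast hpM (Nat.not_dvd_ordCompl hpp (Char.degree_pos η).ne'))
  have hψ : MemLocalIdeal M ((g' : ℂ) * (((p : ℤ) ^ v * u' : ℤ) : ℂ) / (Char.degree ψ : ℂ)) := by
    obtain ⟨i, hi⟩ : ∃ i, v = v' + (i + 1) := ⟨v - v' - 1, by omega⟩
    rw [hi, hsplit ψ u' (i + 1), pow_succ]
    refine MemLocalIdeal.mul_right (MemLocalIdeal.mul_right
      (MemLocalIdeal.mul_left ?_ (memLocalIdeal_p hpM)) (memLocalRing_intCast _)) (hval ψ)
    exact MemLocalRing.pow (memLocalRing_natCast _) i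
  have hχ := memLocalIdeal_of_sub hcong hψ
  have h0 := hsplit χ u 0
  rw [Nat.add_zero, pow_zero, one_mul] at h0
  rw [h0] at hχ
  rcases MemLocalIdeal.mem_or_mem (memLocalRing_intCast u) (hval χ) hχ with h1 | h1
  · exact hu ((memLocalIdeal_intCast_iff hpM u).1 h1)
  rcases MemLocalIdeal.mem_or_mem (memLocalRing_natCast g') (memLocalRing_inv_natCast hpM
      (Nat.not_dvd_ordCompl hpp (Char.degree_pos χ).ne')) h1 with h2 | h2
  · exact hg'p ((memLocalIdeal_natCast_iff hpM g').1 h2)
  · have := MemLocalIdeal.mul_left (memLocalRing_natCast (M := M)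
      (Char.degree χ / p ^ (Char.degree χ).factorization p)) h2
    rw [mul_inv_cancel₀ (Nat.cast_ne_zero.2 (Nat.ordCompl_pos p hd0).ne')] at this
    exact not_memLocalIdeal_one this

/-- Characters in the principal block have degree prime to `p` when the `p`-part is at most `p^2`. -/
theorem not_dvd_degree_principal (hM : IsPModular p M) (ha : (Nat.card G).factorization p ≤ 2)
    {χ : IrrCharacter G} (hχ : χ ∈ principalBlock M G) : ¬ p ∣ Char.degree χ := by
  intro hd
  haveI := hM.2.1
  have hd0 : Char.degree χ ≠ 0 := (Char.degree_pos χ).ne'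
  have hv : 1 ≤ (Char.degree χ).factorization p :=
    (hM.1.pow_dvd_iff_le_factorization hd0).1 (by rwa [pow_one])
  have hva : (Char.degree χ).factorization p ≤ (Nat.card G).factorization p := by
    refine (Nat.factorization_le_iff_dvd hd0 Nat.card_pos.ne').2 ?_ p
    have := BlockCount.charDegree_dvd_card χ
    rwa [BlockCount.charDegree_eq_degree] at this
  have h := pow_dvd_of_sameBlock hM (e := (Char.degree χ).factorization p) (ψ := Char.trivialChar G)
    (by omega) hva (Nat.ordProj_dvd _ _) (Blocks.SameBlock.symm hχ)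
  have h1 : Char.degree (Char.trivialChar G) = 1 := by
    have := Char.apply_one_eq_degree (Char.trivialChar G)
    change (1 : ℂ) = _ at this
    exact_mod_cast this.symm
  rw [h1, Nat.dvd_one] at h
  have := Nat.one_lt_pow (by omega : (Char.degree χ).factorization p ≠ 0) hM.1.one_lt
  omega

end Cfsg.Agent.BlockLow
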